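import Groth.Agent.Lib.ProjCoh.Coherent
import Groth.Agent.Lib.Curves.GlobalSections
import Mathlib.Algebra.Homology.ShortComplex.HomologicalComplex

/-!
# Cohomology chases along bounded exact complexes of `O_X`-modules
-/

universe u

open CategoryTheory CategoryTheory.Limits AlgebraicGeometry Opposite TopologicalSpace

noncomputable section

namespace Groth.Agent.Lib.ProjKoszul.Chase

open Groth.Agent.Lib Groth.Agent.Lib.Curves.LES

variable {X : Scheme.{u}} (R : Type u) [CommRing R] [X.Over (Spec (CommRingCat.of R))]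

/-- Cohomology as a functor to abelian groups. -/
def cohFun (q : ℕ) : X.Modules ⥤ AddCommGrpCat.{u} where
  obj M := AddCommGrpCat.of (Coh.HH X M q)
  map φ := AddCommGrpCat.ofHom (mapK R φ q).toAddMonoidHom
  map_id M := by ext x; exact LinearMap.congr_fun (mapK_id R M q) x
  map_comp f g := by ext x; exact LinearMap.congr_fun (mapK_comp R f g q) x

instance (q : ℕ) : (cohFun (X := X) R q).Additive where
  map_add {_ _ f g} := by ext x; exact ProjCoh.Coherent.mapK_add R f g q x


theorem isZero_cohFun_iff {M : X.Modules} {q : ℕ} :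
    IsZero ((cohFun R q).obj M) ↔ Subsingleton (Coh.HH X M q) :=
  AddCommGrpCat.isZero_iff_subsingleton

include R in
theorem subsingleton_of_iso {M N : X.Modules} (e : M ≅ N) {q : ℕ}
    (h : Subsingleton (Coh.HH X M q)) : Subsingleton (Coh.HH X N q) :=
  (isoK R e q).symm.injective.subsingleton

/-- A map of complexes killing `H^0` in degree `-1` kills the image of the differential. -/
theorem map_f_zero_of_surjective {K L : CochainComplex X.Modules ℤ} (φ : K ⟶ L)
    (hs : Function.Surjective (mapK R (K.d (-1) 0) 0)) (hd : (cohFun R 0).map (φ.f (-1)) = 0) :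
    (cohFun R 0).map (φ.f 0) = 0 := by
  have h : (cohFun R 0).map (K.d (-1) 0) ≫ (cohFun R 0).map (φ.f 0) = 0 := by
    rw [← Functor.map_comp, ← φ.comm, Functor.map_comp, hd, zero_comp]
  ext x
  obtain ⟨y, rfl⟩ := hs x
  have h' := ConcreteCategory.congr_hom h y
  simp only [AddCommGrpCat.hom_zero] at h' ⊢
  exact h'

variable (K : CochainComplex X.Modules ℤ) (hK : ∀ i, K.ExactAt i)

/-- The cycle sequence. -/
abbrev cyc (i : ℤ) : ShortComplex X.Modules :=
  ShortComplex.mk (kernel.ι (K.d i (i + 1)))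
    (kernel.lift (K.d (i + 1) (i + 1 + 1)) (K.d i (i + 1)) (K.d_comp_d _ _ _))
    ((cancel_mono (kernel.ι (K.d (i + 1) (i + 1 + 1)))).1 (by simp))

include hK

theorem shortExact_cyc (i : ℤ) : (cyc K i).ShortExact := by
  have he : (ShortComplex.mk (K.d i (i + 1)) (K.d (i + 1) (i + 1 + 1)) (K.d_comp_d _ _ _)).Exact :=
    (K.exactAt_iff' i (i + 1) (i + 1 + 1) (by simp) (by simp)).1 (hK (i + 1))
  refine ShortComplex.ShortExact.mk' ?_ inferInstance he.epi_kernelLift
  refine ShortComplex.exact_of_f_is_kernel _ ?_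
  refine KernelFork.IsLimit.ofι' (f := (cyc K i).g) _ (cyc K i).zero fun g hg => ?_
  refine ⟨kernel.lift _ g ?_, kernel.lift_ι _ _ _⟩
  have := congrArg (· ≫ kernel.ι (K.d (i + 1) (i + 1 + 1))) hg
  simpa using this

section

include R

/-- Vanishing of the cohomology of the cycles. -/
theorem subsingleton_cycles (N : ℤ) (hN : ∀ j, j < N → IsZero (K.X j)) :
    ∀ (d : ℕ) (i : ℤ), i < N + d → ∀ q : ℕ,
      (∀ (j : ℤ) (p : ℕ), N ≤ j → j < i → (p : ℤ) = q + (i - 1 - j) → Subsingleton (Coh.HH X (K.X j) p)) →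
        Subsingleton (Coh.HH X (kernel (K.d i (i + 1))) q)
  | 0, i, hi, q, _ => by
    rw [← isZero_cohFun_iff R]
    exact (cohFun R q).map_isZero (IsZero.of_mono (kernel.ι (K.d i (i + 1))) (hN i (by omega)))
  | d + 1, i, hi, q, h => by
    obtain ⟨i, rfl⟩ : ∃ i', i = i' + 1 := ⟨i - 1, by ring⟩
    have hS := shortExact_cyc K hK i
    have h1 : Subsingleton (Coh.HH X (kernel (K.d i (i + 1))) (q + 1)) :=
      subsingleton_cycles N hN d i (by omega) (q + 1) fun j p hj hji hp =>
        h j p hj (by omega) (by push_cast at hp; omega)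
    have h2 : Subsingleton (Coh.HH X (K.X i) q) := by
      by_cases hiN : N ≤ i
      · exact h i q hiN (by omega) (by ring)
      · rw [← isZero_cohFun_iff R]
        exact (cohFun R q).map_isZero (hN i (by omega))
    refine subsingleton_of_forall_eq 0 fun x => ?_
    obtain ⟨y, hy⟩ := (exactK₃ R hS q (q + 1) rfl x).1 (Subsingleton.elim _ _)
    rw [← hy, Subsingleton.elim y 0, map_zero]

omit hK R [CommRing R] [X.Over (Spec (CommRingCat.of R))] in
theorem isIso_kernel_ι_zero (hpos : IsZero (K.X (0 + 1))) : IsIso (kernel.ι (K.d 0 (0 + 1))) := by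
  rw [hpos.eq_of_tgt (K.d 0 (0 + 1)) 0]
  infer_instance

/-- Vanishing of the cohomology of the last term. -/
theorem subsingleton_top (N : ℤ) (hN : ∀ j, j < N → IsZero (K.X j)) (hpos : IsZero (K.X (0 + 1)))
    (q : ℕ) (h : ∀ (j : ℤ) (p : ℕ), N ≤ j → j < 0 → (p : ℤ) = q + (-1 - j) →
      Subsingleton (Coh.HH X (K.X j) p)) :
    Subsingleton (Coh.HH X (K.X 0) q) := by
  have := isIso_kernel_ι_zero K hpos
  refine subsingleton_of_iso R (asIso (kernel.ι (K.d 0 (0 + 1)))) ?_
  exact subsingleton_cycles R K hK N hN ((1 - N).toNat) 0 (by omega) q fun j p a b c =>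
    h j p a b (by omega)

/-- Surjectivity onto the global sections of the last term. -/
theorem surjective_top (N : ℤ) (hN : ∀ j, j < N → IsZero (K.X j)) (hpos : IsZero (K.X (0 + 1)))
    (h : ∀ (j : ℤ) (p : ℕ), N ≤ j → j < -1 → (p : ℤ) = -1 - j → Subsingleton (Coh.HH X (K.X j) p)) :
    Function.Surjective (mapK R (K.d (-1) 0) 0) := by
  have hS := shortExact_cyc K hK (-1)
  have h1 : Subsingleton (Coh.HH X (kernel (K.d (-1) (-1 + 1))) 1) :=
    subsingleton_cycles R K hK N hN ((1 - N).toNat) (-1) (by omega) 1 fun j p a b c =>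
      h j p a b (by omega)
  intro x
  have := isIso_kernel_ι_zero K hpos
  let e := asIso (kernel.ι (K.d 0 (0 + 1)))
  obtain ⟨y, hy⟩ := (exactK₃ R hS 0 1 rfl (mapK R e.inv 0 x)).1 (Subsingleton.elim _ _)
  refine ⟨y, ?_⟩
  have hd : K.d (-1) (-1 + 1) = kernel.lift (K.d (-1 + 1) (-1 + 1 + 1)) (K.d (-1) (-1 + 1))
      (K.d_comp_d _ _ _) ≫ kernel.ι _ := (kernel.lift_ι _ _ _).symm
  change mapK R (K.d (-1) (-1 + 1)) 0 y = x
  rw [hd, mapK_comp]
  refine (congrArg (mapK R (kernel.ι _) 0) hy).trans ?_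
  rw [← LinearMap.comp_apply, ← mapK_comp]
  exact (congrArg (fun φ => mapK R φ 0 x) e.inv_hom_id).trans (LinearMap.congr_fun (mapK_id R _ 0) x)

end

end Groth.Agent.Lib.ProjKoszul.Chase
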