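import Mathlib.Algebra.Homology.HomotopyCategory.Acyclic
import Mathlib.Algebra.Homology.HomotopyCategory.Pretriangulated
import Mathlib.Algebra.Homology.Functor
import Mathlib.Algebra.BigOperators.Fin

/-!
# Iterated mapping cones of a family of natural transformations `𝟭 ⟶ T`
-/

universe w v u w' v'

open CategoryTheory CategoryTheory.Limits CochainComplex CochainComplex.HomComplex

noncomputable section

namespace Groth.Agent.Lib.ProjKoszul.Iterate

variable {C : Type u} [Category.{v} C] [Abelian C] (T : C ⥤ C) [T.Additive]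
  (μ : ℕ → (𝟭 C ⟶ T))

/-- The iterates of `T`. -/
def pow : ℕ → C ⥤ C
  | 0 => 𝟭 C
  | m + 1 => T ⋙ pow m

instance pow_additive : ∀ m, (pow T m).Additive
  | 0 => inferInstanceAs (𝟭 C).Additive
  | m + 1 => have := pow_additive m; inferInstanceAs (T ⋙ pow T m).Additive

/-- A natural transformation `𝟭 ⟶ T` applied to a complex. -/
def natHom (ν : 𝟭 C ⟶ T) (K : CochainComplex C ℤ) :
    K ⟶ (T.mapHomologicalComplex (ComplexShape.up ℤ)).obj K where
  f i := ν.app (K.X i)
  comm' i j _ := (ν.naturality (K.d i j)).symm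

theorem natHom_natural (ν : 𝟭 C ⟶ T) {K L : CochainComplex C ℤ} (f : K ⟶ L) :
    natHom T ν K ≫ (T.mapHomologicalComplex (ComplexShape.up ℤ)).map f = f ≫ natHom T ν L := by
  ext i
  exact (ν.naturality (f.f i)).symm

/-- One step. -/
def step (ν : 𝟭 C ⟶ T) : CochainComplex C ℤ ⥤ CochainComplex C ℤ where
  obj K := mappingCone (natHom T ν K)
  map {K L} f := mappingCone.map _ _ f ((T.mapHomologicalComplex _).map f) (natHom_natural T ν f)
  map_id K := by
    have := mappingCone.map_id (natHom T ν K)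
    simpa only [CategoryTheory.Functor.map_id] using this
  map_comp f g := by
    rw [← mappingCone.map_comp]
    simp only [Functor.map_comp]

/-- The iterated cone. -/
def kos : ℕ → (C ⥤ CochainComplex C ℤ)
  | 0 => HomologicalComplex.single C (ComplexShape.up ℤ) 0
  | s + 1 => kos s ⋙ step T (μ s)

variable {E : Type w} [Category.{w'} E] [Preadditive E]

/-- Additive functors killing the layers kill the maps between the terms. -/
theorem map_kos_f_eq_zero (G : C ⥤ E) [G.Additive] {M M' : C} (φ : M ⟶ M') :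
    ∀ (s m : ℕ) (i : ℤ),
      (-(s : ℤ) ≤ i → i ≤ 0 → ∀ l : ℕ, (l : ℤ) = m + s + i → G.map ((pow T l).map φ) = 0) →
        G.map ((pow T m).map (((kos T μ s).map φ).f i)) = 0
  | 0, m, i, h => by
    by_cases hi : i = 0
    · subst hi
      change G.map ((pow T m).map (((HomologicalComplex.single C (ComplexShape.up ℤ) 0).map φ).f 0)) = 0
      rw [HomologicalComplex.single_map_f_self (ComplexShape.up ℤ) 0 φ]
      simp only [Functor.map_comp]
      rw [h (by simp) le_rfl m (by simp), zero_comp, comp_zero]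
    · have hz : ((kos T μ 0).map φ).f i = 0 :=
        (HomologicalComplex.isZero_single_obj_X (ComplexShape.up ℤ) 0 M i hi).eq_of_src _ _
      rw [hz, Functor.map_zero, Functor.map_zero]
  | s + 1, m, i, h => by
    let K := (kos T μ s).obj M
    let f := (kos T μ s).map φ
    let ψ := natHom T (μ s) K
    let ψ' := natHom T (μ s) ((kos T μ s).obj M')
    let g := mappingCone.map ψ ψ' f ((T.mapHomologicalComplex _).map f) (natHom_natural T (μ s) f)
    have h₁ : G.map ((pow T m).map (f.f (i + 1))) = 0 :=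
      map_kos_f_eq_zero G φ s m (i + 1) fun a b l hl =>
        h (by omega) (by omega) l (by push_cast at hl ⊢; omega)
    have h₂ : G.map ((pow T m).map (T.map (f.f i))) = 0 :=
      map_kos_f_eq_zero G φ s (m + 1) i fun a b l hl =>
        h (by omega) (by omega) l (by push_cast at hl ⊢; omega)
    have hl : (mappingCone.inl ψ).v (i + 1) i (by omega) ≫ g.f i =
        f.f (i + 1) ≫ (mappingCone.inl ψ').v (i + 1) i (by omega) := by
      simp [g, mappingCone.map]
    have hr : (mappingCone.inr ψ).f i ≫ g.f i = T.map (f.f i) ≫ (mappingCone.inr ψ').f i := by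
      simp [g, mappingCone.map]
      rfl
    have key : ∀ {W X Y Z : C} (a : W ⟶ X) (b : X ⟶ Y) (c : Y ⟶ Z), G.map ((pow T m).map b) = 0 →
        G.map ((pow T m).map (a ≫ b ≫ c)) = 0 := fun a b c hb => by simp [hb]
    change G.map ((pow T m).map (g.f i)) = 0
    rw [← Category.id_comp (g.f i), ← mappingCone.id_X ψ i (i + 1) rfl, Preadditive.add_comp,
      Category.assoc, Category.assoc, hl, hr]
    rw [Functor.map_add, Functor.map_add]
    exact (congrArg₂ (· + ·) (key _ _ _ h₁) (key _ _ _ h₂)).trans (add_zero 0)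

/-- Killing the top term of the iterated cone kills the top layer. -/
theorem map_top_eq_zero (G : C ⥤ E) [G.Additive] {M M' : C} (φ : M ⟶ M') :
    ∀ (s m : ℕ), G.map ((pow T m).map (((kos T μ s).map φ).f 0)) = 0 →
      G.map ((pow T (m + s)).map φ) = 0
  | 0, m, h => by
    change G.map ((pow T m).map (((HomologicalComplex.single C (ComplexShape.up ℤ) 0).map φ).f 0)) = 0 at h
    let e₁ := (HomologicalComplex.singleObjXSelf (ComplexShape.up ℤ) 0 M)
    let e₂ := (HomologicalComplex.singleObjXSelf (ComplexShape.up ℤ) 0 M')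
    have hφ : φ = e₁.inv ≫ ((HomologicalComplex.single C (ComplexShape.up ℤ) 0).map φ).f 0 ≫ e₂.hom := by
      rw [HomologicalComplex.single_map_f_self (ComplexShape.up ℤ) 0 φ]
      simp [e₁, e₂]
    change G.map ((pow T m).map φ) = 0
    rw [hφ]
    simp [h]
  | s + 1, m, h => by
    let f := (kos T μ s).map φ
    let ψ := natHom T (μ s) ((kos T μ s).obj M)
    let ψ' := natHom T (μ s) ((kos T μ s).obj M')
    let g := mappingCone.map ψ ψ' f ((T.mapHomologicalComplex _).map f) (natHom_natural T (μ s) f)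
    change G.map ((pow T m).map (g.f 0)) = 0 at h
    have hr : (mappingCone.inr ψ).f 0 ≫ g.f 0 = T.map (f.f 0) ≫ (mappingCone.inr ψ').f 0 := by
      simp [g, mappingCone.map]
      rfl
    have hg : T.map (f.f 0) =
        (mappingCone.inr ψ).f 0 ≫ g.f 0 ≫ (mappingCone.snd ψ').v 0 0 (add_zero 0) := by
      have e := (congrArg (· ≫ (mappingCone.snd ψ').v 0 0 (add_zero 0)) hr).trans
        ((Category.assoc _ _ _).trans (congrArg (T.map (f.f 0) ≫ ·) (mappingCone.inr_f_snd_v ψ' 0)))
      exact ((Category.assoc _ _ _).symm.trans (e.trans (Category.comp_id _))).symm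
    have key : ∀ {W X Y Z : C} (a : W ⟶ X) (b : X ⟶ Y) (c : Y ⟶ Z), G.map ((pow T m).map b) = 0 →
        G.map ((pow T m).map (a ≫ b ≫ c)) = 0 := fun a b c hb => by simp [hb]
    have h1 : G.map ((pow T (m + 1)).map (f.f 0)) = 0 :=
      (congrArg (fun x => G.map ((pow T m).map x)) hg).trans (key _ _ _ h)
    have := map_top_eq_zero G φ s (m + 1) h1
    rwa [show m + 1 + s = m + (s + 1) by omega] at this

theorem isZero_kos_X (G : C ⥤ E) [G.Additive] (M : C) (s m : ℕ) (i : ℤ)
    (h : -(s : ℤ) ≤ i → i ≤ 0 → ∀ l : ℕ, (l : ℤ) = m + s + i → IsZero (G.obj ((pow T l).obj M))) :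
    IsZero (G.obj ((pow T m).obj (((kos T μ s).obj M).X i))) := by
  rw [IsZero.iff_id_eq_zero]
  have := map_kos_f_eq_zero T μ G (𝟙 M) s m i fun a b l hl => (h a b l hl).eq_of_src _ _
  simpa using this

theorem isZero_X_of_not_mem (M : C) (s : ℕ) (i : ℤ) (h : i < -(s : ℤ) ∨ 0 < i) :
    IsZero (((kos T μ s).obj M).X i) :=
  isZero_kos_X T μ (𝟭 C) M s 0 i fun a b => absurd h (by omega)

theorem inr_iso_aux (M : C) (s : ℕ) :
    (mappingCone.snd (natHom T (μ s) ((kos T μ s).obj M))).v 0 0 (add_zero 0) ≫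
      (mappingCone.inr (natHom T (μ s) ((kos T μ s).obj M))).f 0 = 𝟙 _ := by
  have hz : IsZero (((kos T μ s).obj M).X 1) := isZero_X_of_not_mem T μ M s 1 (Or.inr one_pos)
  have h := mappingCone.id_X (natHom T (μ s) ((kos T μ s).obj M)) 0 1 rfl
  rwa [hz.eq_of_tgt ((mappingCone.fst (natHom T (μ s) ((kos T μ s).obj M))).1.v 0 1 rfl) 0, zero_comp,
    zero_add] at h

/-- The top term of a cone is the twist of the top term. -/
def topIso (M : C) (s : ℕ) : T.obj (((kos T μ s).obj M).X 0) ≅ ((kos T μ (s + 1)).obj M).X 0 where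
  hom := (mappingCone.inr (natHom T (μ s) ((kos T μ s).obj M))).f 0
  inv := (mappingCone.snd (natHom T (μ s) ((kos T μ s).obj M))).v 0 0 (add_zero 0)
  hom_inv_id := mappingCone.inr_f_snd_v _ _
  inv_hom_id := inr_iso_aux T μ M s

/-- The last differential is a combination of the `μ`, if these commute with `T`. -/
theorem exists_decomp (hμ : ∀ (t : ℕ) (Y : C), T.map ((μ t).app Y) = (μ t).app (T.obj Y)) (M : C) :
    ∀ s, ∃ p : Fin (s + 1) → (((kos T μ (s + 1)).obj M).X (-1) ⟶ ((kos T μ s).obj M).X 0),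
      ((kos T μ (s + 1)).obj M).d (-1) 0 =
        ∑ t : Fin (s + 1), p t ≫ (μ t.val).app _ ≫ (topIso T μ M s).hom := by
  intro s
  let K := (kos T μ s).obj M
  let ψ := natHom T (μ s) K
  let a := (mappingCone.fst ψ).1.v (-1) 0 rfl
  let b : (mappingCone ψ).X (-1) ⟶ T.obj (K.X (-1)) := (mappingCone.snd ψ).v (-1) (-1) (add_zero _)
  have hz : IsZero (K.X 1) := isZero_X_of_not_mem T μ M s 1 (Or.inr one_pos)
  have hd : (mappingCone ψ).d (-1) 0 =
      a ≫ (μ s).app (K.X 0) ≫ (topIso T μ M s).hom + b ≫ T.map (K.d (-1) 0) ≫ (topIso T μ M s).hom := by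
    have h := congrArg (· ≫ (mappingCone ψ).d (-1) 0) (mappingCone.id_X ψ (-1) 0 rfl)
    simp only [Category.id_comp, Preadditive.add_comp, Category.assoc] at h
    rw [← h, mappingCone.inl_v_d ψ 0 (-1) 1 (by norm_num) (by norm_num), mappingCone.inr_f_d,
      hz.eq_of_tgt (K.d 0 1) 0, zero_comp, sub_zero]
    rfl
  have hlast : ∀ (p : Fin s → ((mappingCone ψ).X (-1) ⟶ K.X 0)),
      b ≫ T.map (K.d (-1) 0) = ∑ t : Fin s, p t ≫ (μ t.val).app (K.X 0) →
      ∃ p : Fin (s + 1) → (((kos T μ (s + 1)).obj M).X (-1) ⟶ K.X 0),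
        ((kos T μ (s + 1)).obj M).d (-1) 0 =
          ∑ t : Fin (s + 1), p t ≫ (μ t.val).app _ ≫ (topIso T μ M s).hom := by
    intro p hp
    refine ⟨Fin.snoc (α := fun _ => (mappingCone ψ).X (-1) ⟶ K.X 0) p a, ?_⟩
    rw [Fin.sum_univ_castSucc]
    erw [Fin.snoc_last]
    simp only [Fin.val_castSucc, Fin.val_last]
    refine hd.trans ((add_comm _ _).trans (congrArg₂ (· + ·) ?_ rfl))
    rw [← Category.assoc, hp, Preadditive.sum_comp]
    refine Finset.sum_congr rfl fun t _ => ?_
    erw [Fin.snoc_castSucc, Category.assoc]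
    rfl
  cases s with
  | zero =>
    refine hlast Fin.elim0 ?_
    rw [(isZero_X_of_not_mem T μ M 0 (-1) (Or.inl (by norm_num))).eq_of_src (K.d (-1) 0) 0,
      Functor.map_zero, comp_zero, Finset.univ_eq_empty, Finset.sum_empty]
  | succ s =>
    obtain ⟨q, hq⟩ := exists_decomp hμ M s
    refine hlast (fun t => b ≫ T.map (q t) ≫ (topIso T μ M s).hom) ?_
    rw [show K.d (-1) 0 = _ from hq, Functor.map_sum, Preadditive.comp_sum]
    refine Finset.sum_congr rfl fun t _ => ?_
    simp only [Functor.map_comp, Category.assoc, hμ]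
    exact congrArg (fun x => b ≫ T.map (q t) ≫ x) ((μ t.val).naturality (topIso T μ M s).hom).symm

/-- A biproduct of two finite sums of copies. -/
def biprodSigmaIso [HasFiniteCoproducts C] (Y : C) (a b : ℕ) :
    (∐ fun _ : Fin a => Y) ⊞ (∐ fun _ : Fin b => Y) ≅ ∐ fun _ : Fin (a + b) => Y where
  hom := biprod.desc (Sigma.desc fun i => Sigma.ι (fun _ : Fin (a + b) => Y) (Fin.castAdd b i))
    (Sigma.desc fun i => Sigma.ι (fun _ : Fin (a + b) => Y) (Fin.natAdd a i))
  inv := Sigma.desc fun i => Fin.addCases (motive := fun _ => Y ⟶ _)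
    (fun i => Sigma.ι (fun _ : Fin a => Y) i ≫ biprod.inl)
    (fun i => Sigma.ι (fun _ : Fin b => Y) i ≫ biprod.inr) i
  hom_inv_id := by ext <;> simp
  inv_hom_id := by
    refine Sigma.hom_ext _ _ fun i => ?_
    refine Fin.addCases (fun i => ?_) (fun i => ?_) i <;> simp

/-- The terms of the iterated cone are sums of copies of the layers. -/
theorem nonempty_kos_X_iso [HasFiniteCoproducts C] (M : C) :
    ∀ (s m k : ℕ) (i : ℤ), (k : ℤ) = i + s →
      Nonempty ((pow T m).obj (((kos T μ s).obj M).X i) ≅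
        ∐ fun _ : Fin (s.choose k) => (pow T (m + k)).obj M)
  | 0, m, 0, i, h => by
    obtain rfl : i = 0 := by simpa using h.symm
    have : Unique (Fin (Nat.choose 0 0)) := inferInstanceAs (Unique (Fin 1))
    exact ⟨(pow T m).mapIso (HomologicalComplex.singleObjXSelf (ComplexShape.up ℤ) 0 M) ≪≫
      (coproductUniqueIso fun _ : Fin (Nat.choose 0 0) => (pow T m).obj M).symm⟩
  | 0, m, k + 1, i, h => by
    have hz : IsZero ((pow T m).obj (((kos T μ 0).obj M).X i)) :=
      (pow T m).map_isZero (isZero_X_of_not_mem T μ M 0 i (by push_cast at h ⊢; omega))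
    refine ⟨hz.iso ?_⟩
    rw [IsZero.iff_id_eq_zero]
    exact Sigma.hom_ext _ _ fun j => Fin.elim0 (Fin.cast (Nat.choose_zero_succ k) j)
  | s + 1, m, k, i, h => by
    let K := (kos T μ s).obj M
    have := preservesBinaryBiproducts_of_preservesBiproducts (pow T m)
    have e : (pow T m).obj (((kos T μ (s + 1)).obj M).X i) ≅
        (pow T m).obj (K.X (i + 1)) ⊞ (pow T (m + 1)).obj (K.X i) :=
      (pow T m).mapIso (HomologicalComplex.homotopyCofiber.XIsoBiprod (natHom T (μ s) K) i (i + 1) rfl) ≪≫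
        (pow T m).mapBiprod _ _
    obtain ⟨e₁⟩ := nonempty_kos_X_iso M s m k (i + 1) (by push_cast at h; omega)
    cases k with
    | zero =>
      have hz : IsZero ((pow T (m + 1)).obj (K.X i)) :=
        (pow T (m + 1)).map_isZero (isZero_X_of_not_mem T μ M s i (by push_cast at h; omega))
      refine ⟨e ≪≫ (isoBiprodZero hz).symm ≪≫ e₁ ≪≫ eqToIso ?_⟩
      rw [Nat.choose_zero_right, Nat.choose_zero_right]
    | succ k =>
      obtain ⟨e₂⟩ := nonempty_kos_X_iso M s (m + 1) k i (by push_cast at h; omega)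
      refine ⟨e ≪≫ biprod.mapIso e₁ (e₂ ≪≫ eqToIso ?_) ≪≫
        biprodSigmaIso ((pow T (m + (k + 1))).obj M) (s.choose (k + 1)) (s.choose k) ≪≫ eqToIso ?_⟩
      · rw [show m + 1 + k = m + (k + 1) by omega]
      · rw [Nat.choose_succ_succ', Nat.add_comm]

section Acyclic

variable {D : Type u} [Category.{v} D] [Abelian D]

theorem acyclic_of_iso {K L : CochainComplex D ℤ} (e : K ≅ L) (hK : K.Acyclic) : L.Acyclic :=
  fun i => (hK i).of_iso e

theorem acyclic_mappingCone_of_isIso {K L : CochainComplex D ℤ} (φ : K ⟶ L) [IsIso φ] :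
    (mappingCone φ).Acyclic := by
  refine (HomotopyCategory.quotient_obj_mem_subcategoryAcyclic_iff_acyclic _).1 ?_
  refine ObjectProperty.prop_of_isZero _ ?_
  refine (Pretriangulated.Triangle.isZero₃_iff_isIso₁ _
    (HomotopyCategory.mappingCone_triangleh_distinguished φ)).2 ?_
  exact inferInstanceAs (IsIso ((HomotopyCategory.quotient _ _).map φ))

theorem acyclic_mappingCone {K L : CochainComplex D ℤ} (φ : K ⟶ L) (hK : K.Acyclic) (hL : L.Acyclic) :
    (mappingCone φ).Acyclic :=
  (HomotopyCategory.quotient_obj_mem_subcategoryAcyclic_iff_acyclic _).1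
    ((HomotopyCategory.subcategoryAcyclic D).ext_of_isTriangulatedClosed₃ _
      (HomotopyCategory.mappingCone_triangleh_distinguished φ)
      ((HomotopyCategory.quotient_obj_mem_subcategoryAcyclic_iff_acyclic _).2 hK)
      ((HomotopyCategory.quotient_obj_mem_subcategoryAcyclic_iff_acyclic _).2 hL))

/-- If `F` inverts one of the transformations, it makes the later iterated cones acyclic. -/
theorem acyclic_map_kos (F : C ⥤ D) [F.Additive] (M : C) (j : ℕ)
    (hF : ∀ N, IsIso (F.map ((μ j).app N))) :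
    ∀ s, j < s → ((F.mapHomologicalComplex (ComplexShape.up ℤ)).obj ((kos T μ s).obj M)).Acyclic
  | 0, h => absurd h (by omega)
  | s + 1, h => by
    let Φ := F.mapHomologicalComplex (ComplexShape.up ℤ)
    let K := (kos T μ s).obj M
    refine acyclic_of_iso
      (mappingCone.mapHomologicalComplexIso (natHom T (μ s) K) F).symm ?_
    rcases Nat.lt_succ_iff_lt_or_eq.mp h with h' | h'
    · have hK : (Φ.obj K).Acyclic := acyclic_map_kos F M j hF s h'
      let e : Φ.obj K ⟶ Φ.obj ((T.mapHomologicalComplex _).obj K) := Φ.map (natHom T (μ j) K)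
      have : ∀ i, IsIso (e.f i) := fun i => hF (K.X i)
      have : IsIso e := HomologicalComplex.Hom.isIso_of_components e
      exact acyclic_mappingCone _ hK (acyclic_of_iso (asIso e) hK)
    · subst h'
      have : ∀ i, IsIso ((Φ.map (natHom T (μ j) K)).f i) := fun i => hF (K.X i)
      have : IsIso (Φ.map (natHom T (μ j) K)) := HomologicalComplex.Hom.isIso_of_components _
      exact acyclic_mappingCone_of_isIso _

end Acyclic

end Groth.Agent.Lib.ProjKoszul.Iterate
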