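import Groth.Agent.Lib.ProjKoszul.Mult
import Groth.Agent.Lib.ProjKoszul.Iterate
import Groth.Agent.Lib.ProjKoszul.Chase

/-!
# The Koszul complex on `P^n_R` and Castelnuovo–Mumford regularity

* `Regularity.koszul`, `Regularity.acyclic_koszul`: the exact Koszul complex.
* `Regularity.subsingleton_of_le`: regularity propagates.
* `Regularity.genAt_of_le`: twists beyond the regularity are globally generated.
-/

universe u

open CategoryTheory CategoryTheory.Limits AlgebraicGeometry TopologicalSpace Opposite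

noncomputable section

namespace Groth.Agent.Lib.ProjKoszul.Regularity

open Groth.Agent.Lib Groth.Agent.Lib.ProjCoh.Coherent Groth.Agent.Lib.ProjKoszul.Iterate
  TensorMod.Basic TensorMod.Pullback Groth.Agent.Lib.Curves.LES

variable {n : ℕ} {R : Type u} [CommRing R]

local notation "P" => CohB1.ProjSpace n R

local notation "H[" q "]" F:max => Subsingleton (Coh.HH (CohB1.ProjSpace n R) F q)

variable (n R) in
/-- Twisting by `O(1)`. -/
abbrev T : (CohB1.ProjSpace n R).Modules ⥤ (CohB1.ProjSpace n R).Modules := tensorBy (tw n R 1)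

variable (n R) in
/-- The coordinates, indexed cyclically. -/
def μ (s : ℕ) : 𝟭 (CohB1.ProjSpace n R).Modules ⟶ T n R := Mult.mulX (Fin.ofNat (n + 1) s)

/-- The iterates of twisting. -/
def powIso : ∀ (m : ℕ) (F : (CohB1.ProjSpace n R).Modules),
    (pow (T n R) m).obj F ≅ CohB1.tensorMod F (tw n R (m : ℤ))
  | 0, F => (rightUnit F).symm ≪≫ tensorIso (Iso.refl F) twZero.symm
  | m + 1, F => powIso m (CohB1.tensorMod F (tw n R 1)) ≪≫ assoc _ _ _ ≪≫
      tensorIso (Iso.refl F) (twTensor 1 (m : ℤ) ≪≫ eqToIso (by push_cast; rw [add_comm]))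

/-- `F(a)(m) ≅ F(a + m)`. -/
def powTwIso (F : (CohB1.ProjSpace n R).Modules) (m : ℕ) (a b : ℤ) (h : a + m = b) :
    (pow (T n R) m).obj (CohB1.tensorMod F (tw n R a)) ≅ CohB1.tensorMod F (tw n R b) :=
  powIso m _ ≪≫ assoc _ _ _ ≪≫
    tensorIso (Iso.refl F) (twTensor a (m : ℤ) ≪≫ eqToIso (by rw [h]))

/-- The Koszul complex of a module, in degrees `[-(n+1), 0]`. -/
def koszul (M : (CohB1.ProjSpace n R).Modules) : CochainComplex (CohB1.ProjSpace n R).Modules ℤ :=
  (kos (T n R) (μ n R) (n + 1)).obj M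

theorem iSup_chart : ⨆ t, Mult.chart n R t = ⊤ :=
  eq_top_iff.mpr fun x _ => Opens.mem_iSup.mpr (Mult.exists_mem_chart x)

theorem exactAt_koszul (M : (CohB1.ProjSpace n R).Modules) (i : ℤ) : (koszul M).ExactAt i := by
  refine Modules.Local.exact_of_restrict (Mult.chart n R) iSup_chart _ fun t => ?_
  let F := Scheme.Modules.restrictFunctor (Mult.chart n R t).ι
  exact acyclic_map_kos (T n R) (μ n R) F M t.val (fun N => by
    have h : IsIso ((pb (Mult.chart n R t).ι).map ((Mult.mulX t).app N)) := Mult.isIso_pb_mulX t N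
    have ht : μ n R t.val = Mult.mulX t := congrArg Mult.mulX (Fin.ofNat_val_eq_self t)
    rw [ht]
    exact (NatIso.isIso_map_iff (Scheme.Modules.restrictFunctorIsoPullback (Mult.chart n R t).ι) _).2 h)
    (n + 1) t.isLt i

theorem isZero_koszul (M : (CohB1.ProjSpace n R).Modules) (i : ℤ) (h : i < -((n + 1 : ℕ) : ℤ) ∨ 0 < i) :
    IsZero ((koszul M).X i) :=
  isZero_X_of_not_mem (T n R) (μ n R) M (n + 1) i h

theorem subsingleton_term (M : (CohB1.ProjSpace n R).Modules) (j : ℤ) (p : ℕ)
    (h : ∀ l : ℕ, (l : ℤ) = n + 1 + j → H[p] ((pow (T n R) l).obj M)) :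
    H[p] ((koszul M).X j) := by
  rw [← Chase.isZero_cohFun_iff R]
  exact isZero_kos_X (T n R) (μ n R) (Chase.cohFun R p) M (n + 1) 0 j fun _ _ l hl =>
    (Chase.isZero_cohFun_iff R).2 (h l (by push_cast at hl; omega))

theorem exists_top_iso (M : (CohB1.ProjSpace n R).Modules) :
    Nonempty ((koszul M).X 0 ≅ (pow (T n R) (n + 1)).obj M) := by
  obtain ⟨e⟩ := nonempty_kos_X_iso (T n R) (μ n R) M (n + 1) 0 (n + 1) 0 (by simp)
  have : Unique (Fin (Nat.choose (n + 1) (n + 1))) := by
    rw [Nat.choose_self]; infer_instance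
  exact ⟨e ≪≫ coproductUniqueIso _ ≪≫ eqToIso (by rw [zero_add])⟩

/-- One more twist keeps the vanishing. -/
theorem subsingleton_pow (M : (CohB1.ProjSpace n R).Modules) (q : ℕ)
    (h : ∀ (l p : ℕ), l ≤ n → p + l = q + n → H[p] ((pow (T n R) l).obj M)) :
    H[q] ((pow (T n R) (n + 1)).obj M) := by
  obtain ⟨e⟩ := exists_top_iso M
  refine Chase.subsingleton_of_iso R e ?_
  exact Chase.subsingleton_top R (koszul M) (exactAt_koszul M) (-((n + 1 : ℕ) : ℤ))
    (fun j hj => isZero_koszul M j (Or.inl hj)) (isZero_koszul M _ (Or.inr (by norm_num))) q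
    fun j p _ hj hp => subsingleton_term M j p fun l hl => h l p (by omega) (by omega)

/-- `F` is regular at level `d`. -/
def Reg (F : (CohB1.ProjSpace n R).Modules) (d : ℤ) : Prop :=
  ∀ i : ℕ, 1 ≤ i → H[i] (CohB1.tensorMod F (tw n R (d - i)))

/-- Castelnuovo–Mumford: regularity propagates upwards. -/
theorem reg_succ {F : (CohB1.ProjSpace n R).Modules} {d : ℤ} (h : Reg F d) : Reg F (d + 1) := by
  intro i hi
  refine Chase.subsingleton_of_iso R (powTwIso F (n + 1) (d - i - n) _ (by push_cast; ring)) ?_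
  refine subsingleton_pow _ i fun l p hl hp => ?_
  exact Chase.subsingleton_of_iso R
    (powTwIso F l (d - i - n) (d - p) (by omega)).symm (h p (by omega))

theorem reg_of_le {F : (CohB1.ProjSpace n R).Modules} {m d : ℤ} (h : Reg F m) (hmd : m ≤ d) :
    Reg F d := by
  induction d, hmd using Int.le_induction with
  | base => exact h
  | succ d _ ih => exact reg_succ ih

/-- Vanishing beyond the regularity. -/
theorem subsingleton_of_le {F : (CohB1.ProjSpace n R).Modules} {m r : ℤ} {i : ℕ} (h : Reg F m)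
    (hi : 1 ≤ i) (hr : m - i ≤ r) : H[i] (CohB1.tensorMod F (tw n R r)) := by
  have := reg_of_le h (d := r + i) (by omega) i hi
  rwa [add_sub_cancel_right] at this

theorem isEquivalence_pow : ∀ m, (pow (T n R) m).IsEquivalence
  | 0 => inferInstanceAs (𝟭 _).IsEquivalence
  | m + 1 =>
    have := isEquivalence_pow m
    inferInstanceAs (T n R ⋙ pow (T n R) m).IsEquivalence

theorem h0Equiv_mapK {X : Scheme.{u}} [X.Over (Spec (CommRingCat.of R))] {M N : X.Modules}
    (φ : M ⟶ N) (z : Coh.HH X M 0) :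
    Curves.GlobalSections.h0Equiv N (mapK R φ 0 z) =
      φ.app ⊤ (Curves.GlobalSections.h0Equiv M z) := by
  change Sheaf.H.equiv₀ (Coh.toAb N) _ (Sheaf.H.map (toAbMap φ) 0 z) = _
  rw [← Sheaf.H.equiv₀_naturality]
  rfl

theorem isZero_of_epi_free {X : Scheme.{u}} {M N : X.Modules} {ι : Type u}
    (p : (SheafOfModules.free ι : X.Modules) ⟶ M) [Epi p] (φ : M ⟶ N)
    (h : ∀ t, φ.app ⊤ t = 0) : φ = 0 := by
  refine (cancel_epi p).1 ?_
  refine Sigma.hom_ext (f := fun _ : ι => Coh.structureModule X) _ _ fun i => Modules.Free.unitHom_ext ?_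
  refine (h _).trans ?_
  rfl

/-- Generation by global sections descends one twist, given surjectivity of multiplication. -/
theorem isGloballyGenerated_pow (M : (CohB1.ProjSpace n R).Modules)
    (h : ∀ (l p : ℕ), l < n → p + l = n → H[p] ((pow (T n R) l).obj M))
    (hg : Curv2.IsGloballyGenerated ((pow (T n R) (n + 1)).obj M)) :
    Curv2.IsGloballyGenerated ((pow (T n R) n).obj M) := by
  let N := (pow (T n R) n).obj M
  let p : (SheafOfModules.free (Γ(N, ⊤) : Type u) : (CohB1.ProjSpace n R).Modules) ⟶ N :=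
    Sigma.desc fun t : Γ(N, ⊤) => Modules.Free.unitHom N t
  refine ⟨Γ(N, ⊤), p, Preadditive.epi_of_cokernel_zero ?_⟩
  let Q : (CohB1.ProjSpace n R).Modules := cokernel p
  let π : N ⟶ Q := cokernel.π p
  have hπ : ∀ t, π.app ⊤ t = 0 := fun t => by
    have e : Modules.Free.unitHom N t ≫ π = 0 :=
      (Sigma.ι_desc_assoc (fun t : Γ(N, ⊤) => Modules.Free.unitHom N t) t π).symm.trans
        ((congrArg (Sigma.ι (fun _ : Γ(N, ⊤) => Coh.structureModule (CohB1.ProjSpace n R)) t ≫ ·)
          (cokernel.condition p)).trans comp_zero)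
    conv_lhs => rw [← Modules.Free.unitHom_app_one N t]
    change (Modules.Free.unitHom N t ≫ π).app ⊤ _ = 0
    rw [e]
    rfl
  have := isEquivalence_pow (n := n) (R := R) n
  let Q' := (pow (T n R) n).objPreimage Q
  let eQ : (pow (T n R) n).obj Q' ≅ Q := (pow (T n R) n).objObjPreimageIso Q
  let q' : M ⟶ Q' := (pow (T n R) n).preimage (π ≫ eQ.inv)
  have hq : (pow (T n R) n).map q' = π ≫ eQ.inv := Functor.map_preimage _ _
  let G := Chase.cohFun (X := CohB1.ProjSpace n R) R 0
  have h0 : ∀ {A B : (CohB1.ProjSpace n R).Modules} (φ : A ⟶ B),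
      G.map φ = 0 ↔ ∀ t, φ.app ⊤ t = 0 := fun {A B} φ => by
    change (Chase.cohFun R 0).map φ = 0 ↔ _
    constructor
    · intro hφ t
      obtain ⟨z, rfl⟩ := (Curves.GlobalSections.h0Equiv A).surjective t
      have hz : mapK R φ 0 z = 0 := congr($hφ z)
      exact (h0Equiv_mapK (R := R) φ z).symm.trans (by rw [hz]; exact map_zero _)
    · intro hφ
      ext z
      refine (Curves.GlobalSections.h0Equiv B).injective ?_
      refine (h0Equiv_mapK (R := R) φ z).trans ((hφ _).trans (map_zero _).symm)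
  have hq0 : G.map ((pow (T n R) n).map q') = 0 := by
    rw [hq]
    exact (G.map_comp π eQ.inv).trans (by rw [(h0 π).2 hπ, zero_comp])
  have hd : G.map (((kos (T n R) (μ n R) (n + 1)).map q').f (-1)) = 0 :=
    map_kos_f_eq_zero (T n R) (μ n R) G q' (n + 1) 0 (-1) fun _ _ l hl => by
      obtain rfl : l = n := by push_cast at hl; omega
      exact hq0
  have htop : G.map (((kos (T n R) (μ n R) (n + 1)).map q').f 0) = 0 := by
    have hs : Function.Surjective (mapK R ((koszul M).d (-1) 0) 0) :=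
      Chase.surjective_top R (koszul M) (exactAt_koszul M) (-((n + 1 : ℕ) : ℤ))
        (fun j hj => isZero_koszul M j (Or.inl hj)) (isZero_koszul M _ (Or.inr (by norm_num)))
        fun j p _ hj hp => subsingleton_term M j p fun l hl => h l p (by omega) (by omega)
    exact Chase.map_f_zero_of_surjective R ((kos (T n R) (μ n R) (n + 1)).map q') hs hd
  have hT : G.map ((pow (T n R) (n + 1)).map q') = 0 := by
    have := map_top_eq_zero (T n R) (μ n R) G q' (n + 1) 0 htop
    rwa [zero_add] at this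
  obtain ⟨ι, r, hr⟩ := hg
  have hz : (pow (T n R) (n + 1)).map q' = 0 := isZero_of_epi_free r _ ((h0 _).1 hT)
  have := isEquivalence_pow (n := n) (R := R) (n + 1)
  have hq' : q' = 0 := (pow (T n R) (n + 1)).map_injective (hz.trans (Functor.map_zero _ _ _).symm)
  rw [hq', Functor.map_zero] at hq
  have hπ0 : π = 0 := by
    rw [← cancel_mono eQ.inv, ← hq, zero_comp]
  exact hπ0

/-- Twists beyond the regularity are globally generated. -/
theorem isGloballyGenerated_of_le {F : (CohB1.ProjSpace n R).Modules} (hF : Coh.IsCoh F) {m d : ℤ}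
    (h : Reg F m) (hd : m ≤ d) : Curv2.IsGloballyGenerated (CohB1.tensorMod F (tw n R d)) := by
  have giso : ∀ {A B : (CohB1.ProjSpace n R).Modules}, (A ≅ B) → Curv2.IsGloballyGenerated A →
      Curv2.IsGloballyGenerated B := fun e ⟨ι, p, hp⟩ => ⟨ι, p ≫ e.hom, epi_comp' hp (IsIso.epi_of_iso e.hom)⟩
  obtain ⟨d₀, hd₀⟩ := Ample.GG.eventually_genAt_twist (HProj.QuasiProj.isAmple_twist_projSpace n R) F hF
  suffices key : ∀ (k : ℕ) (d : ℤ), (d₀ : ℤ) ≤ d + k → m ≤ d →
      Curv2.IsGloballyGenerated (CohB1.tensorMod F (tw n R d)) from key (d₀ + (-d).toNat) d (by omega) hd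
  intro k
  induction k with
  | zero =>
    intro d hk _
    lift d to ℕ using by omega
    obtain ⟨j⟩ := nonempty_tensorPow_iso (n := n) (R := R) d
    exact giso (tensorIso (Iso.refl F) j.symm)
      (Ample.GG.isGloballyGenerated_of_genAt (hd₀ d (by omega)))
  | succ k ih =>
    intro d hk hd
    refine giso (powTwIso F n (d - n) d (by ring)) (isGloballyGenerated_pow _ (fun l p hl hp => ?_) ?_)
    · exact Chase.subsingleton_of_iso R (powTwIso F l (d - n) (d - p) (by omega)).symm
        (reg_of_le h hd p (by omega))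
    · exact giso (powTwIso F (n + 1) (d - n) (d + 1) (by push_cast; ring)).symm
        (ih (d + 1) (by omega) (by omega))

end Groth.Agent.Lib.ProjKoszul.Regularity
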