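import Groth.Agent.Lib.ProjKoszul.Regularity
import Groth.Agent.Lib.Modules.TensorSec
import Groth.Agent.Lib.Ample.GenLocus

/-!
# Global sections of twists beyond the regularity are spanned by multiples of the coordinates
-/

universe u

open CategoryTheory CategoryTheory.Limits AlgebraicGeometry TopologicalSpace Opposite MonoidalCategory

noncomputable section

namespace Groth.Agent.Lib.ProjKoszul.Surj

open Groth.Agent.Lib Groth.Agent.Lib.ProjCoh.Coherent Groth.Agent.Lib.Modules.TensorSec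
  Groth.Agent.Lib.ProjKoszul.Iterate Groth.Agent.Lib.ProjKoszul.Regularity
  Groth.Agent.Lib.Curves.LES
open Groth.Agent.Lib.TensorMod.Dual (rs rf)
open Groth.Agent.Lib.TensorMod.Basic (tmap sh fgt adj rightUnit tensorBy tensorIso)

section General

variable {X : Scheme.{u}}

theorem homEquiv_rightUnit_hom {C D : Type*} [Category C] [Category D] [MonoidalCategory C]
    [BraidedCategory C] {L : C ⥤ D} {U : D ⥤ C} (adj : L ⊣ U) [TensorMod.Reflective.InvertsUnits adj]
    [IsIso adj.counit] {I : D} (eI : U.obj I ≅ 𝟙_ C) (A : D) :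
    adj.homEquiv _ A (TensorMod.Reflective.rightUnit adj eI A).hom =
      (β_ (U.obj A) (U.obj I)).hom ≫ (eI.hom ▷ U.obj A) ≫ (λ_ (U.obj A)).hom := by
  rw [Adjunction.homEquiv_apply_eq, Adjunction.homEquiv_counit]
  simp [TensorMod.Reflective.rightUnit, TensorMod.Reflective.comm, TensorMod.Reflective.leftUnit]

theorem pairM_rightUnit_hom (M : X.Modules) {U : X.Opens} (m : Γ(M, U)) (r : Γ(X, U)) :
    TensorMod.Free.pairM (rightUnit M).hom m (show Γ(Coh.structureModule X, U) from r) = r • m :=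
  (congrArg (fun t => TensorMod.Whisker.pair (M := (fgt X).obj M)
    (P := (fgt X).obj (Coh.structureModule X)) (H := (fgt X).obj M) (X := op U) t m r)
    (homEquiv_rightUnit_hom (adj X) (TensorMod.Basic.fgtStructureIso X) M)).trans rfl

theorem rightUnit_inv_app (M : X.Modules) {U : X.Opens} (m : Γ(M, U)) :
    (rightUnit M).inv.app U m = tens m (TensorMod.Gen.one X U) := by
  have h : (rightUnit M).hom.app U (tens m (TensorMod.Gen.one X U)) = m :=
    (app_tens _ _ _).trans ((pairM_rightUnit_hom M m 1).trans (one_smul _ m))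
  conv_lhs => rw [← h]
  rw [← CategoryTheory.comp_apply, ← Scheme.Modules.Hom.comp_app, Iso.hom_inv_id]
  rfl

/-- Tensoring by a section of an invertible module commutes with tensoring by it. -/
theorem mul_comm_aux {L : X.Modules} (hL : PicF.IsInvertible L) (x : Coh.structureModule X ⟶ L)
    (Y : X.Modules) :
    tmap ((rightUnit Y).inv ≫ tmap (𝟙 Y) x) (𝟙 L) =
      (rightUnit (CohB1.tensorMod Y L)).inv ≫ tmap (𝟙 _) x := by
  have hv : ∀ {A : X.Modules} {U : X.Opens} (a : Γ(A, U)),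
      ((rightUnit A).inv ≫ tmap (𝟙 A) x).app U a = tens a (x.app U (TensorMod.Gen.one X U)) := by
    intro A U a
    rw [Scheme.Modules.Hom.comp_app, CategoryTheory.comp_apply, rightUnit_inv_app, tmap_tens]
    rfl
  refine TensorMod.Free.hom_ext_pairM fun U y l => ?_
  rw [← app_tens, ← app_tens]
  rw [tmap_tens, hv, hv]
  change tens (tens y (x.app U (TensorMod.Gen.one X U))) l =
    tens (tens y l) (x.app U (TensorMod.Gen.one X U))
  refine section_ext _ _ _ fun p hp => ?_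
  obtain ⟨W, e, hpW, he⟩ := TensorMod.Gen.isInvertible_iff.1 hL p
  refine ⟨U ⊓ W, inf_le_left, ⟨hp, hpW⟩, ?_⟩
  simp only [rs_tens]
  obtain ⟨a, ha⟩ := Ample.GenLocus.exists_coord (he.res (inf_le_right : U ⊓ W ≤ W))
    (rs L inf_le_left l)
  obtain ⟨b, hb⟩ := Ample.GenLocus.exists_coord (he.res (inf_le_right : U ⊓ W ≤ W))
    (rs L inf_le_left (x.app U (TensorMod.Gen.one X U)))
  rw [ha, hb]
  simp only [tens_smul_left, tens_smul_right, smul_smul, mul_comm]

/-- The unit of sheafification on sections. -/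
def η (P : CohB1.PMod X) {U : X.Opens} (x : P.obj (op U)) : Γ((sh X).obj P, U) :=
  ((adj X).unit.app P).app (op U) x

theorem η_natural {P Q : CohB1.PMod X} (f : P ⟶ Q) {U : X.Opens} (x : P.obj (op U)) :
    ((sh X).map f).app U (η P x) = η Q (f.app (op U) x) :=
  (congrArg (fun g : P ⟶ (fgt X).obj ((sh X).obj Q) => g.app (op U) x) ((adj X).unit.naturality f)).symm

theorem tens_eq_η {M N : X.Modules} {U : X.Opens} (m : Γ(M, U)) (n : Γ(N, U)) :
    tens m n = η ((fgt X).obj M ⊗ (fgt X).obj N) (TensorProduct.tmul _ m n) := by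
  have e : (adj X).unit.app (CohB1.tensorPre M N) ≫ (fgt X).map (𝟙 (CohB1.tensorMod M N)) =
      (adj X).unit.app (CohB1.tensorPre M N) :=
    (congrArg (_ ≫ ·) ((fgt X).map_id _)).trans (Category.comp_id _)
  exact congrArg (fun t => TensorMod.Whisker.pair (M := (fgt X).obj M) (P := (fgt X).obj N)
    (H := (fgt X).obj (CohB1.tensorMod M N)) (X := op U) t m n)
    (((adj X).homEquiv_unit (CohB1.tensorPre M N) (CohB1.tensorMod M N) (𝟙 _)).trans e)

theorem assoc_tens {L M N : X.Modules} {U : X.Opens} (a : Γ(L, U)) (b : Γ(M, U)) (c : Γ(N, U)) :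
    (TensorMod.Basic.assoc L M N).hom.app U (tens (tens a b) c) = tens a (tens b c) := by
  let A := (fgt X).obj L
  let B := (fgt X).obj M
  let C := (fgt X).obj N
  have h1 : tens (tens a b) c = (TensorMod.Reflective.rightIso (adj X) (A ⊗ B) C).hom.app U
      (η ((A ⊗ B) ⊗ C) (TensorProduct.tmul _ (TensorProduct.tmul _ a b) c)) := by
    refine Eq.trans ?_ (η_natural ((adj X).unit.app (A ⊗ B) ▷ C) _).symm
    rw [tens_eq_η, tens_eq_η]
    rfl
  have h2 : tens a (tens b c) = (TensorMod.Reflective.leftIso (adj X) A (B ⊗ C)).hom.app U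
      (η (A ⊗ (B ⊗ C)) (TensorProduct.tmul _ a (TensorProduct.tmul _ b c))) := by
    refine Eq.trans ?_ (η_natural (A ◁ (adj X).unit.app (B ⊗ C)) _).symm
    rw [tens_eq_η, tens_eq_η]
    rfl
  rw [h1, h2]
  have key : (TensorMod.Reflective.rightIso (adj X) (A ⊗ B) C).hom ≫ (TensorMod.Basic.assoc L M N).hom =
      (sh X).map (α_ A B C).hom ≫ (TensorMod.Reflective.leftIso (adj X) A (B ⊗ C)).hom := by
    change (TensorMod.Reflective.rightIso (adj X) (A ⊗ B) C).hom ≫
      ((TensorMod.Reflective.rightIso (adj X) (A ⊗ B) C).symm ≪≫ (sh X).mapIso (α_ A B C) ≪≫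
        TensorMod.Reflective.leftIso (adj X) A (B ⊗ C)).hom = _
    exact (Iso.hom_inv_id_assoc _ _)
  exact (congrArg (fun φ => Scheme.Modules.Hom.app φ U
      (η ((A ⊗ B) ⊗ C) (TensorProduct.tmul _ (TensorProduct.tmul _ a b) c))) key).trans
    (congrArg (fun x => (TensorMod.Reflective.leftIso (adj X) A (B ⊗ C)).hom.app U x)
      (η_natural (α_ A B C).hom _))

/-- The span of the products of two spaces of sections. -/
def prods (M N : X.Modules) : AddSubgroup Γ(CohB1.tensorMod M N, ⊤) :=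
  AddSubgroup.closure (Set.range fun p : Γ(M, ⊤) × Γ(N, ⊤) => tens p.1 p.2)

theorem tens_mem_prods {M N : X.Modules} (a : Γ(M, ⊤)) (b : Γ(N, ⊤)) : tens a b ∈ prods M N :=
  AddSubgroup.subset_closure ⟨(a, b), rfl⟩

theorem mem_prods_of_unit {N B : X.Modules} (σ : Coh.structureModule X ≅ B)
    (z : Γ(CohB1.tensorMod N B, ⊤)) : z ∈ prods N B := by
  let w := (tmap (𝟙 N) σ.inv).app ⊤ z
  have hw : w = tens ((rightUnit N).hom.app ⊤ w) (TensorMod.Gen.one _ ⊤) := by
    rw [← rightUnit_inv_app]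
    exact (congrArg (fun φ => Scheme.Modules.Hom.app φ ⊤ w) (rightUnit N).hom_inv_id).symm
  have hz : z = (tmap (𝟙 N) σ.hom).app ⊤ w :=
    (congrArg (fun φ => Scheme.Modules.Hom.app φ ⊤ z) (tensorIso (Iso.refl N) σ).inv_hom_id).symm
  rw [hz, hw, tmap_tens]
  exact tens_mem_prods _ _

theorem mem_prods_mul {N A L B : X.Modules} (j : CohB1.tensorMod A L ⟶ B) (x : Γ(L, ⊤))
    {w : Γ(CohB1.tensorMod N A, ⊤)} (hw : w ∈ prods N A) :
    (tmap (𝟙 N) j).app ⊤ ((TensorMod.Basic.assoc N A L).hom.app ⊤ (tens w x)) ∈ prods N B := by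
  refine AddSubgroup.closure_induction
    (p := fun w _ => (tmap (𝟙 N) j).app ⊤ ((TensorMod.Basic.assoc N A L).hom.app ⊤ (tens w x)) ∈ prods N B)
    ?_ ?_ ?_ ?_ hw
  · rintro _ ⟨⟨a, b⟩, rfl⟩
    rw [assoc_tens, tmap_tens]
    exact tens_mem_prods _ _
  · rw [tens_zero_left, map_zero, map_zero]; exact AddSubgroup.zero_mem _
  · intro a b _ _ ha hb
    rw [tens_add_left, map_add, map_add]; exact AddSubgroup.add_mem _ ha hb
  · intro a _ ha
    have e : tens (-a) x = -tens a x :=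
      map_neg (AddMonoidHom.mk' (fun a : Γ(CohB1.tensorMod N A, ⊤) => tens a x)
        fun a b => tens_add_left a b x) a
    rw [e, map_neg, map_neg]; exact AddSubgroup.neg_mem _ ha

/-- Transport of a spanning property along isomorphisms. -/
theorem exists_sum_transport {F : X.Modules ⥤ X.Modules} {ι : Type} [Fintype ι] (ν : ι → (𝟭 X.Modules ⟶ F))
    {A A' B : X.Modules} (e : A ≅ A') (ψ : F.obj A ≅ B)
    (h : ∀ z : Γ(F.obj A', ⊤), ∃ y : ι → Γ(A', ⊤), z = ∑ t, ((ν t).app A').app ⊤ (y t))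
    (z : Γ(B, ⊤)) : ∃ y : ι → Γ(A, ⊤), z = ∑ t, ψ.hom.app ⊤ (((ν t).app A).app ⊤ (y t)) := by
  obtain ⟨y, hy⟩ := h ((ψ.inv ≫ F.map e.hom).app ⊤ z)
  refine ⟨fun t => e.inv.app ⊤ (y t), ?_⟩
  have h1 := congrArg ((F.map e.inv ≫ ψ.hom).app ⊤) hy
  rw [map_sum] at h1
  refine Eq.trans ?_ (h1.trans (Finset.sum_congr rfl fun t _ => ?_))
  · change z = ((ψ.inv ≫ F.map e.hom) ≫ F.map e.inv ≫ ψ.hom).app ⊤ z
    rw [Category.assoc, ← Functor.map_comp_assoc, e.hom_inv_id, CategoryTheory.Functor.map_id, Category.id_comp, ψ.inv_hom_id]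
    rfl
  · change ((ν t).app A' ≫ F.map e.inv ≫ ψ.hom).app ⊤ (y t) = (e.inv ≫ (ν t).app A ≫ ψ.hom).app ⊤ (y t)
    rw [← (ν t).naturality_assoc]
    rfl

end General

variable {n : ℕ} {R : Type u} [CommRing R]

theorem mulX_commutes (t : ℕ) (Y : (CohB1.ProjSpace n R).Modules) :
    (T n R).map ((μ n R t).app Y) = (μ n R t).app ((T n R).obj Y) :=
  mul_comm_aux (isInvertible_tw 1) _ Y

/-- The value of multiplication by a coordinate on a section. -/
theorem μ_app (t : ℕ) (N : (CohB1.ProjSpace n R).Modules) (y : Γ(N, ⊤)) :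
    ((μ n R t).app N).app ⊤ y =
      tens y ((Mult.sect (Fin.ofNat (n + 1) t)).app ⊤ (TensorMod.Gen.one _ ⊤)) := by
  change ((rightUnit N).inv ≫ tmap (𝟙 N) (Mult.sect _)).app ⊤ y = _
  rw [Scheme.Modules.Hom.comp_app, CategoryTheory.comp_apply, rightUnit_inv_app, tmap_tens]
  rfl

/-- Sections of `N(1)` are sums of multiples of sections of `N` by the coordinates. -/
theorem exists_sum_eq {F : (CohB1.ProjSpace n R).Modules} {d : ℤ} (h : Reg F d)
    (z : Γ((T n R).obj (CohB1.tensorMod F (tw n R d)), ⊤)) :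
    ∃ y : Fin (n + 1) → Γ(CohB1.tensorMod F (tw n R d), ⊤),
      z = ∑ t, ((μ n R t.val).app _).app ⊤ (y t) := by
  let N := CohB1.tensorMod F (tw n R d)
  let M := CohB1.tensorMod F (tw n R (d - n))
  obtain ⟨e₀⟩ := exists_top_iso M
  have := isEquivalence_pow (n := n) (R := R) 1
  have : (T n R).IsEquivalence := this
  let Z := ((kos (T n R) (μ n R) n).obj M).X 0
  let e₁ : (T n R).obj Z ≅ (T n R).obj N :=
    topIso (T n R) (μ n R) M n ≪≫ e₀ ≪≫ powTwIso F (n + 1) (d - n) (d + 1) (by push_cast; ring) ≪≫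
      tensorIso (Iso.refl F) (twTensor d 1).symm ≪≫ (TensorMod.Basic.assoc _ _ _).symm
  let e : Z ≅ N := (T n R).preimageIso e₁
  obtain ⟨p, hp⟩ := exists_decomp (T n R) (μ n R) mulX_commutes M n
  have hs : Function.Surjective (mapK R ((koszul M).d (-1) 0) 0) :=
    Chase.surjective_top R (koszul M) (exactAt_koszul M) (-((n + 1 : ℕ) : ℤ))
      (fun j hj => isZero_koszul M j (Or.inl hj)) (isZero_koszul M _ (Or.inr (by norm_num)))
      fun j q _ hj hq => subsingleton_term M j q fun l hl =>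
        Chase.subsingleton_of_iso R (powTwIso F l (d - n) (d - q) (by omega)).symm (h q (by omega))
  let z' := (topIso (T n R) (μ n R) M n).hom.app ⊤ (e₁.inv.app ⊤ z)
  obtain ⟨w, hw⟩ := hs ((Curves.GlobalSections.h0Equiv _).symm z')
  let w' := Curves.GlobalSections.h0Equiv _ w
  have hd : ((koszul M).d (-1) 0).app ⊤ w' = z' :=
    (h0Equiv_mapK (R := R) _ w).symm.trans ((congrArg _ hw).trans (AddEquiv.apply_symm_apply _ z'))
  refine ⟨fun t => e.hom.app ⊤ ((p t).app ⊤ w'), ?_⟩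
  have happ : ∀ {A B : (CohB1.ProjSpace n R).Modules} (φ ψ : A ⟶ B) (a : Γ(A, ⊤)), φ = ψ →
      φ.app ⊤ a = ψ.app ⊤ a := fun φ ψ a h => by rw [h]
  have hcong : ((koszul M).d (-1) 0 ≫ (topIso (T n R) (μ n R) M n).inv ≫ (T n R).map e.hom) =
      ∑ t : Fin (n + 1), p t ≫ e.hom ≫ (μ n R t.val).app N := by
    refine (congrArg (· ≫ (topIso (T n R) (μ n R) M n).inv ≫ (T n R).map e.hom) hp).trans ?_
    rw [Preadditive.sum_comp]
    refine Finset.sum_congr rfl fun t _ => ?_
    simp only [Category.assoc, Iso.hom_inv_id_assoc]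
    exact congrArg (p t ≫ ·) ((μ n R t.val).naturality e.hom).symm
  have := happ _ _ w' hcong
  have hz : ((koszul M).d (-1) 0 ≫ (topIso (T n R) (μ n R) M n).inv ≫ (T n R).map e.hom).app ⊤ w' = z := by
    rw [Functor.preimageIso_hom, Functor.map_preimage]
    change e₁.hom.app ⊤ ((topIso (T n R) (μ n R) M n).inv.app ⊤ (((koszul M).d (-1) 0).app ⊤ w')) = z
    rw [hd]
    change ((topIso (T n R) (μ n R) M n).hom ≫ (topIso (T n R) (μ n R) M n).inv ≫ e₁.hom).app ⊤
      (e₁.inv.app ⊤ z) = z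
    rw [Iso.hom_inv_id_assoc]
    change (e₁.inv ≫ e₁.hom).app ⊤ z = z
    rw [e₁.inv_hom_id]
    rfl
  rw [← hz, this]
  exact map_sum (AddMonoidHom.mk' (fun φ : ((koszul M).X (-1) ⟶ (T n R).obj N) => φ.app ⊤ w')
    fun _ _ => rfl) _ _

/-- Sections of `F(d) ⊗ O(e)` are sums of products of sections, beyond the regularity. -/
theorem mem_prods {F : (CohB1.ProjSpace n R).Modules} {d : ℤ} (h : Reg F d) :
    ∀ (e : ℕ) (z : Γ(CohB1.tensorMod (CohB1.tensorMod F (tw n R d)) (tw n R (e : ℤ)), ⊤)),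
      z ∈ prods (CohB1.tensorMod F (tw n R d)) (tw n R (e : ℤ))
  | 0, z => mem_prods_of_unit (twZero.symm ≪≫ eqToIso (by rw [Nat.cast_zero])) z
  | e + 1, z => by
    let N := CohB1.tensorMod F (tw n R d)
    let j : CohB1.tensorMod (tw n R (e : ℤ)) (tw n R 1) ≅ tw n R ((e + 1 : ℕ) : ℤ) :=
      twTensor (e : ℤ) 1 ≪≫ eqToIso (by rw [Nat.cast_succ])
    let ψ : (T n R).obj (CohB1.tensorMod N (tw n R (e : ℤ))) ≅ CohB1.tensorMod N (tw n R ((e + 1 : ℕ) : ℤ)) :=
      TensorMod.Basic.assoc _ _ _ ≪≫ tensorIso (Iso.refl N) j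
    obtain ⟨y, hy⟩ := exists_sum_transport (fun t : Fin (n + 1) => μ n R t.val)
      (TensorMod.Basic.assoc F (tw n R d) _ ≪≫ tensorIso (Iso.refl F) (twTensor d (e : ℤ))) ψ
      (exists_sum_eq (reg_of_le h (le_add_of_nonneg_right (Int.natCast_nonneg e)))) z
    rw [hy]
    refine AddSubgroup.sum_mem _ fun t _ => ?_
    rw [μ_app]
    exact mem_prods_mul j.hom _ (mem_prods h e (y t))

/-- The multiplication map on global sections is surjective beyond the regularity. -/
theorem surjective_toSheafify {F : (CohB1.ProjSpace n R).Modules} {d : ℤ} (h : Reg F d) (e : ℕ) :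
    Function.Surjective
      ((toSheafify (Opens.grothendieckTopology (CohB1.ProjSpace n R))
        (CohB1.tensorPre (CohB1.tensorMod F (tw n R d)) (tw n R (e : ℤ))).presheaf).app (op ⊤)) := by
  intro z
  let g := (toSheafify (Opens.grothendieckTopology (CohB1.ProjSpace n R))
    (CohB1.tensorPre (CohB1.tensorMod F (tw n R d)) (tw n R (e : ℤ))).presheaf).app (op ⊤)
  have hz := mem_prods h e z
  refine (AddSubgroup.closure_le (AddMonoidHom.range g.hom)).2 ?_ hz
  rintro _ ⟨⟨a, b⟩, rfl⟩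
  exact ⟨TensorProduct.tmul _ a b, (tens_eq_η a b).symm⟩

end Groth.Agent.Lib.ProjKoszul.Surj
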