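import Groth.Agent.Lib.ProjKoszul.Surj

/-!
# Castelnuovo–Mumford regularity in short exact sequences
-/

universe u

open CategoryTheory CategoryTheory.Limits AlgebraicGeometry TopologicalSpace Opposite

noncomputable section

namespace Groth.Agent.Lib.ProjKoszul.Reg2

open Groth.Agent.Lib Groth.Agent.Lib.ProjCoh.Coherent Groth.Agent.Lib.ProjKoszul.Regularity
  Groth.Agent.Lib.Curves.LES TensorMod.Basic

section LES

variable {X : Scheme.{u}} (R : Type u) [CommRing R] [X.Over (Spec (CommRingCat.of R))]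
  {S : ShortComplex X.Modules}

include R in
theorem sub₂ (hS : S.ShortExact) {q : ℕ} (h₁ : Subsingleton (Coh.HH X S.X₁ q))
    (h₃ : Subsingleton (Coh.HH X S.X₃ q)) : Subsingleton (Coh.HH X S.X₂ q) := by
  refine subsingleton_of_forall_eq 0 fun x => ?_
  obtain ⟨y, hy⟩ := (exactK₂ R hS q x).1 (Subsingleton.elim _ _)
  rw [← hy, Subsingleton.elim y 0, map_zero]

include R in
theorem sub₃ (hS : S.ShortExact) {q : ℕ} (h₂ : Subsingleton (Coh.HH X S.X₂ q))
    (h₁ : Subsingleton (Coh.HH X S.X₁ (q + 1))) : Subsingleton (Coh.HH X S.X₃ q) := by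
  refine subsingleton_of_forall_eq 0 fun x => ?_
  obtain ⟨y, hy⟩ := (exactK₃ R hS q (q + 1) rfl x).1 (Subsingleton.elim _ _)
  rw [← hy, Subsingleton.elim y 0, map_zero]

include R in
theorem sub₁ (hS : S.ShortExact) {q : ℕ} (h₃ : Function.Surjective (mapK R S.g q))
    (h₂ : Subsingleton (Coh.HH X S.X₂ (q + 1))) : Subsingleton (Coh.HH X S.X₁ (q + 1)) := by
  refine subsingleton_of_forall_eq 0 fun x => ?_
  obtain ⟨y, hy⟩ := (exactK₁ R hS q (q + 1) rfl x).1 (Subsingleton.elim _ _)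
  obtain ⟨z, hz⟩ := h₃ y
  rw [← hy]
  exact (exactK₃ R hS q (q + 1) rfl y).2 ⟨z, hz⟩

end LES

variable {n : ℕ} {R : Type u} [CommRing R]

theorem subsingleton_tw {d : ℤ} {q : ℕ} (hd : -(n : ℤ) ≤ d ∨ q ≠ n) (hq : 1 ≤ q) :
    Subsingleton (Coh.HH (CohB1.ProjSpace n R) (tw n R d) q) :=
  Chase.subsingleton_of_iso R (twIso d).symm
    (hd.elim (fun hd => ProjCoh.Twist.subsingleton_HH_of_neg_le n R hd (by omega))
      fun hd => ProjCoh.Twist.subsingleton_HH_of_ne n R d (by omega) hd)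

/-- `M(j)(1) ≅ M(j+1)`. -/
def Φ (M : (CohB1.ProjSpace n R).Modules) (j : ℤ) :
    (T n R).obj (CohB1.tensorMod M (tw n R j)) ≅ CohB1.tensorMod M (tw n R (j + 1)) :=
  TensorMod.Basic.assoc _ _ _ ≪≫ tensorIso (Iso.refl M) (twTensor j 1)

theorem Φ_natural {M N : (CohB1.ProjSpace n R).Modules} (g : M ⟶ N) (j : ℤ) :
    (Φ M j).hom ≫ tmap g (𝟙 _) = (T n R).map (tmap g (𝟙 (tw n R j))) ≫ (Φ N j).hom := by
  change ((TensorMod.Basic.assoc _ _ _).hom ≫ tmap (𝟙 M) (twTensor j 1).hom) ≫ tmap g (𝟙 _) =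
    tmap (tmap g (𝟙 _)) (𝟙 _) ≫ (TensorMod.Basic.assoc _ _ _).hom ≫ tmap (𝟙 N) (twTensor j 1).hom
  rw [assoc_natural_assoc, tmap_id, Category.assoc, ← tmap_comp, ← tmap_comp]
  simp

theorem app_surjective_of_mapK {X : Scheme.{u}} [X.Over (Spec (CommRingCat.of R))] {M N : X.Modules}
    (φ : M ⟶ N) (h : Function.Surjective (mapK R φ 0)) : Function.Surjective (φ.app ⊤) := fun z => by
  obtain ⟨w, hw⟩ := h ((Curves.GlobalSections.h0Equiv N).symm z)
  exact ⟨Curves.GlobalSections.h0Equiv M w,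
    (h0Equiv_mapK (R := R) φ w).symm.trans ((congrArg _ hw).trans (AddEquiv.apply_symm_apply _ z))⟩

theorem mapK_surjective_of_app {X : Scheme.{u}} [X.Over (Spec (CommRingCat.of R))] {M N : X.Modules}
    (φ : M ⟶ N) (h : Function.Surjective (φ.app ⊤)) : Function.Surjective (mapK R φ 0) := fun w => by
  obtain ⟨z, hz⟩ := h (Curves.GlobalSections.h0Equiv N w)
  refine ⟨(Curves.GlobalSections.h0Equiv M).symm z, (Curves.GlobalSections.h0Equiv N).injective ?_⟩
  exact (h0Equiv_mapK (R := R) φ _).trans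
    ((congrArg _ (AddEquiv.apply_symm_apply _ z)).trans hz)

/-- Surjectivity on global sections propagates to higher twists of a regular target. -/
theorem surjective_succ {F G : (CohB1.ProjSpace n R).Modules} (g : F ⟶ G) {j : ℤ} (hG : Reg G j)
    (h : Function.Surjective (mapK R (tmap g (𝟙 (tw n R j))) 0)) :
    Function.Surjective (mapK R (tmap g (𝟙 (tw n R (j + 1)))) 0) := by
  refine mapK_surjective_of_app _ fun z => ?_
  obtain ⟨y, hy⟩ := Surj.exists_sum_eq hG ((Φ G j).inv.app ⊤ z)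
  choose x hx using fun t => app_surjective_of_mapK _ h (y t)
  refine ⟨∑ t, (Φ F j).hom.app ⊤ (((μ n R t.val).app _).app ⊤ (x t)), ?_⟩
  have hz : z = (Φ G j).hom.app ⊤ ((Φ G j).inv.app ⊤ z) :=
    (congrArg (fun φ => Scheme.Modules.Hom.app φ ⊤ z) (Φ G j).inv_hom_id).symm
  refine (map_sum ((tmap g (𝟙 _)).app ⊤).hom _ _).trans (Eq.trans ?_
    (((congrArg ((Φ G j).hom.app ⊤) hy).trans (map_sum ((Φ G j).hom.app ⊤).hom _ _)).symm.trans hz.symm))
  refine Finset.sum_congr rfl fun t _ => ?_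
  refine Eq.trans ?_ (congrArg (fun w => (Φ G j).hom.app ⊤ (((μ n R t.val).app _).app ⊤ w)) (hx t))
  change ((μ n R t.val).app _ ≫ (Φ F j).hom ≫ tmap g (𝟙 _)).app ⊤ (x t) =
    (tmap g (𝟙 _) ≫ (μ n R t.val).app _ ≫ (Φ G j).hom).app ⊤ (x t)
  rw [Φ_natural, ← Category.assoc, ← (μ n R t.val).naturality]
  rfl

theorem surjective_comp {X : Scheme.{u}} [X.Over (Spec (CommRingCat.of R))] {L M N : X.Modules}
    {φ : L ⟶ M} {ψ : M ⟶ N} {q : ℕ} (h₁ : Function.Surjective (mapK R φ q))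
    (h₂ : Function.Surjective (mapK R ψ q)) : Function.Surjective (mapK R (φ ≫ ψ) q) := by
  rw [mapK_comp]
  exact h₂.comp h₁

theorem surjective_iso {X : Scheme.{u}} [X.Over (Spec (CommRingCat.of R))] {M N : X.Modules}
    (e : M ≅ N) {q : ℕ} : Function.Surjective (mapK R e.hom q) := (isoK R e q).surjective

section Field

variable {k : Type u} [Field k]

/-- Regularity of a module from a hyperplane section. -/
theorem hyperplane {S : ShortComplex (CohB1.ProjSpace n k).Modules} (hS : S.ShortExact)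
    (hF : Coh.IsCoh S.X₂) (e : S.X₁ ≅ CohB1.tensorMod S.X₂ (tw n k (-1))) {m : ℤ} (hG : Reg S.X₃ m) :
    (∀ (i : ℕ) (j : ℤ), 2 ≤ i → m - i ≤ j →
        Subsingleton (Coh.HH (CohB1.ProjSpace n k) (CohB1.tensorMod S.X₂ (tw n k j)) i)) ∧
    (∀ j : ℤ, m - 1 ≤ j →
        Module.finrank k (Coh.HH (CohB1.ProjSpace n k) (CohB1.tensorMod S.X₂ (tw n k j)) 1) ≤
          Module.finrank k (Coh.HH (CohB1.ProjSpace n k) (CohB1.tensorMod S.X₂ (tw n k (j - 1))) 1)) ∧
    (∀ j : ℤ, m - 1 + (Module.finrank k (Coh.HH (CohB1.ProjSpace n k)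
          (CohB1.tensorMod S.X₂ (tw n k (m - 1))) 1) : ℤ) ≤ j →
        Subsingleton (Coh.HH (CohB1.ProjSpace n k) (CohB1.tensorMod S.X₂ (tw n k j)) 1)) ∧
    Reg S.X₂ (m + Module.finrank k (Coh.HH (CohB1.ProjSpace n k)
      (CohB1.tensorMod S.X₂ (tw n k (m - 1))) 1)) := by
  set F := S.X₂
  obtain ⟨d₀, hd₀⟩ := exists_forall_subsingleton F hF
  let ε : ∀ j : ℤ, CohB1.tensorMod S.X₁ (tw n k j) ≅ CohB1.tensorMod F (tw n k (j - 1)) := fun j =>
    tensorIso e (Iso.refl _) ≪≫ TensorMod.Basic.assoc _ _ _ ≪≫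
      tensorIso (Iso.refl F) (twTensor (-1) j ≪≫ eqToIso (by rw [neg_add_eq_sub]))
  have hT : ∀ j : ℤ, (S.map (tensorBy (tw n k j))).ShortExact := fun j => shortExact_tw hS j
  have hi : ∀ (i : ℕ) (j : ℤ), 2 ≤ i → m - i ≤ j →
      Subsingleton (Coh.HH (CohB1.ProjSpace n k) (CohB1.tensorMod F (tw n k j)) i) := by
    suffices key : ∀ (b : ℕ) (i : ℕ) (j : ℤ), (d₀ : ℤ) ≤ j + b → 2 ≤ i → m - i ≤ j →
        Subsingleton (Coh.HH (CohB1.ProjSpace n k) (CohB1.tensorMod F (tw n k j)) i) from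
      fun i j h2 hj => key (d₀ + (-j).toNat) i j (by omega) h2 hj
    intro b
    induction b with
    | zero =>
      intro i j hb h2 _
      obtain ⟨q, rfl⟩ : ∃ q, i = q + 1 := ⟨i - 1, by omega⟩
      exact hd₀ j (by omega) q
    | succ b ih =>
      intro i j hb h2 hj
      obtain ⟨q, rfl⟩ : ∃ q, i = q + 1 := ⟨i - 1, by omega⟩
      refine Chase.subsingleton_of_iso k (ε (j + 1) ≪≫ eqToIso (by rw [add_sub_cancel_right])) ?_
      refine sub₁ k (hT (j + 1)) (fun y => ⟨0, ?_⟩) (ih (q + 1) (j + 1) (by omega) h2 (by omega))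
      exact (subsingleton_of_le hG (by omega : 1 ≤ q) (by push_cast at hj ⊢; omega)).elim _ _
  let h : ℤ → ℕ := fun j =>
    Module.finrank k (Coh.HH (CohB1.ProjSpace n k) (CohB1.tensorMod F (tw n k j)) 1)
  have fin : ∀ j, FiniteDimensional k (Coh.HH (CohB1.ProjSpace n k) (CohB1.tensorMod F (tw n k j)) 1) :=
    fun j => ProjCoh.Coherent.finite_HH _ (isCoh_tensorMod hF (isCoh_tw j)) 1
  let φ : ∀ j : ℤ, Coh.HH (CohB1.ProjSpace n k) (CohB1.tensorMod F (tw n k (j - 1))) 1 →ₗ[k]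
      Coh.HH (CohB1.ProjSpace n k) (CohB1.tensorMod F (tw n k j)) 1 := fun j =>
    (mapK k (S.map (tensorBy (tw n k j))).f 1).comp (isoK k (ε j).symm 1).toLinearMap
  have hsurj : ∀ j, m - 1 ≤ j → Function.Surjective (φ j) := fun j hj => by
    intro x
    have : Subsingleton (Coh.HH (CohB1.ProjSpace n k) (S.map (tensorBy (tw n k j))).X₃ 1) :=
      subsingleton_of_le hG le_rfl (by simpa using hj)
    obtain ⟨y, hy⟩ := (exactK₂ k (hT j) 1 x).1 (Subsingleton.elim _ _)
    obtain ⟨z, rfl⟩ := (isoK k (ε j).symm 1).surjective y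
    exact ⟨z, hy⟩
  have hle : ∀ j, m - 1 ≤ j → h j ≤ h (j - 1) := fun j hj =>
    haveI := fin j; haveI := fin (j - 1)
    LinearMap.finrank_le_finrank_of_surjective (f := φ j) (hsurj j hj)
  have hinj_iff : ∀ j, Function.Injective (φ j) ↔
      Function.Surjective (mapK k (S.map (tensorBy (tw n k j))).g 0) := by
    intro j
    constructor
    · intro hi' x
      refine (exactK₃ k (hT j) 0 1 rfl x).1 ?_
      obtain ⟨z, hz⟩ := (isoK k (ε j).symm 1).surjective (δK k (hT j) 0 1 rfl x)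
      have hz0 : φ j z = 0 :=
        (congrArg _ hz).trans ((exactK₁ k (hT j) 0 1 rfl _).2 ⟨x, rfl⟩)
      rw [← hz, hi' (hz0.trans (map_zero _).symm), map_zero]
      rfl
    · intro hs
      refine (injective_iff_map_eq_zero _).2 fun z hz => (isoK k (ε j).symm 1).injective ?_
      obtain ⟨x, hx⟩ := (exactK₁ k (hT j) 0 1 rfl _).1 hz
      obtain ⟨w, rfl⟩ := hs x
      exact (hx.symm.trans ((exactK₃ k (hT j) 0 1 rfl _).2 ⟨w, rfl⟩)).trans (map_zero _).symm
  have hkill : ∀ j, m ≤ j → h j = h (j - 1) → h (j - 1) = 0 := by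
    intro j hj heq
    haveI := fin j; haveI := fin (j - 1)
    have h1 : Function.Surjective (mapK k (S.map (tensorBy (tw n k j))).g 0) :=
      (hinj_iff j).1 ((LinearMap.injective_iff_surjective_of_finrank_eq_finrank (f := φ j) heq.symm).2
        (hsurj j (by omega)))
    have hs : ∀ t : ℕ, Function.Surjective (mapK k (S.map (tensorBy (tw n k (j + t)))).g 0) := by
      intro t
      induction t with
      | zero => rw [Nat.cast_zero, add_zero]; exact h1
      | succ t ih =>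
        rw [Nat.cast_succ, ← add_assoc]
        exact surjective_succ S.g (reg_of_le hG (by omega)) ih
    have heq' : ∀ t : ℕ, h (j - 1) = h (j - 1 + t) := by
      intro t
      induction t with
      | zero => simp
      | succ t ih =>
        haveI := fin (j + t); haveI := fin (j + t - 1)
        rw [ih, show j - 1 + (t : ℤ) = j + t - 1 by ring, show j - 1 + ((t + 1 : ℕ) : ℤ) = j + t by push_cast; ring]
        exact le_antisymm (LinearMap.finrank_le_finrank_of_injective (f := φ (j + t)) ((hinj_iff _).2 (hs t)))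
          (hle _ (by omega))
    rw [heq' ((d₀ : ℤ) - (j - 1)).toNat]
    have := hd₀ (j - 1 + (((d₀ : ℤ) - (j - 1)).toNat : ℤ)) (by omega) 0
    exact Module.finrank_zero_of_subsingleton
  have hbound : ∀ t : ℕ, h (m - 1 + t) ≤ h (m - 1) - t := by
    intro t
    induction t with
    | zero => simp
    | succ t ih =>
      have a := hle (m + t) (by omega)
      have b := hkill (m + t) (by omega)
      rw [show m + (t : ℤ) - 1 = m - 1 + t by ring] at a b
      rw [show m - 1 + ((t + 1 : ℕ) : ℤ) = m + t by push_cast; ring]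
      omega
  have h3 : ∀ j : ℤ, m - 1 + (h (m - 1) : ℤ) ≤ j →
      Subsingleton (Coh.HH (CohB1.ProjSpace n k) (CohB1.tensorMod F (tw n k j)) 1) := by
    intro j hj
    haveI := fin j
    have := hbound (j - (m - 1)).toNat
    rw [show m - 1 + ((j - (m - 1)).toNat : ℤ) = j by omega] at this
    exact Module.finrank_zero_iff.1 (by omega : h j = 0)
  refine ⟨hi, hle, h3, fun i hi1 => ?_⟩
  rcases (Nat.eq_or_lt_of_le hi1) with rfl | h2
  · exact h3 _ (by simp only [h]; push_cast; omega)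
  · exact hi i _ h2 (by omega)

/-- A regular coherent module is a quotient of `O(-m)^b`, with kernel regular one level above. -/
theorem exists_presentation {F : (CohB1.ProjSpace n k).Modules} (hF : Coh.IsCoh F) {m : ℤ} (h : Reg F m) :
    ∃ (b : ℕ) (φ : (∐ fun _ : Fin b => tw n k (-m)) ⟶ F), Epi φ ∧ Reg (kernel φ) (m + 1) := by
  classical
  let N := CohB1.tensorMod F (tw n k m)
  haveI := ProjCoh.Coherent.finite_HH N (isCoh_tensorMod hF (isCoh_tw m)) 0
  let B := Module.finBasis k (Coh.HH (CohB1.ProjSpace n k) N 0)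
  set b := Module.finrank k (Coh.HH (CohB1.ProjSpace n k) N 0)
  let s : Fin b → (Coh.structureModule (CohB1.ProjSpace n k) ⟶ N) := fun a =>
    Modules.Free.unitHom N (Curves.GlobalSections.h0Equiv N (B a))
  let P : (CohB1.ProjSpace n k).Modules := ∐ fun _ : Fin b => Coh.structureModule (CohB1.ProjSpace n k)
  let ψ : P ⟶ N := Sigma.desc s
  have hψ : Function.Surjective (mapK k ψ 0) := by
    rw [← LinearMap.range_eq_top, eq_top_iff, ← B.span_eq, Submodule.span_le]
    rintro _ ⟨a, rfl⟩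
    refine ⟨mapK k (Sigma.ι (fun _ : Fin b => Coh.structureModule (CohB1.ProjSpace n k)) a) 0
      ((Curves.GlobalSections.h0Equiv _).symm (show _ from TensorMod.Gen.one (CohB1.ProjSpace n k) ⊤)), ?_⟩
    rw [← LinearMap.comp_apply, ← mapK_comp, Sigma.ι_desc]
    refine (Curves.GlobalSections.h0Equiv N).injective ?_
    exact (h0Equiv_mapK (R := k) (s a) _).trans ((congrArg _ (AddEquiv.apply_symm_apply _ _)).trans
      (Modules.Free.unitHom_app_one N _))
  have hψepi : Epi ψ := by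
    obtain ⟨ι, p, hp⟩ := isGloballyGenerated_of_le hF h le_rfl
    refine Preadditive.epi_of_cokernel_zero ?_
    refine isZero_of_epi_free p _ fun t => ?_
    obtain ⟨x, rfl⟩ := app_surjective_of_mapK ψ hψ t
    change (ψ ≫ cokernel.π ψ).app ⊤ x = 0
    rw [cokernel.condition]
    rfl
  let T' := tensorBy (tw n k (-m))
  let eF : T'.obj N ≅ F :=
    (cancelNat (twCancel m (-m) (by omega))).app F
  let eP : (∐ fun _ : Fin b => tw n k (-m)) ≅ T'.obj P :=
    (PreservesCoproduct.iso T' (fun _ : Fin b => Coh.structureModule (CohB1.ProjSpace n k)) ≪≫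
      Sigma.mapIso fun _ => TensorMod.Basic.leftUnit _).symm
  let φ := eP.hom ≫ T'.map ψ ≫ eF.hom
  have : Epi (T'.map ψ) := T'.map_epi ψ
  have hφepi : Epi φ := epi_comp' (IsIso.epi_of_iso eP.hom) (epi_comp' this (IsIso.epi_of_iso eF.hom))
  refine ⟨b, φ, hφepi, fun i hi => ?_⟩
  let S := ShortComplex.mk (kernel.ι φ) φ (kernel.condition φ)
  have hS : S.ShortExact := ShortComplex.ShortExact.mk' (ShortComplex.exact_kernel φ) inferInstance hφepi
  have hO : ∀ (d : ℤ) (q : ℕ), (-(n : ℤ) ≤ -m + d ∨ q ≠ n) → 1 ≤ q →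
      Subsingleton (Coh.HH (CohB1.ProjSpace n k) (S.map (tensorBy (tw n k d))).X₂ q) := fun d q hd hq => by
    rw [← Chase.isZero_cohFun_iff k]
    have hz : IsZero ((Chase.cohFun k q).obj (tw n k (-m + d))) :=
      (Chase.isZero_cohFun_iff k).2 (subsingleton_tw hd hq)
    refine IsZero.of_iso ?_ ((Chase.cohFun k q).mapIso
      (PreservesCoproduct.iso (tensorBy (tw n k d)) (fun _ : Fin b => tw n k (-m)) ≪≫
        Sigma.mapIso fun _ => twTensor (-m) d))
    have : IsZero ((Chase.cohFun (X := CohB1.ProjSpace n k) k q).obj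
        (∐ fun _ : Fin b => tw n k (-m + d))) := by
      obtain ⟨f, hf⟩ := sigma_surj k (tw n k (-m + d)) b q
      have := subsingleton_tw (n := n) (R := k) hd hq
      exact (Chase.isZero_cohFun_iff k).2 hf.subsingleton
    exact this
  obtain ⟨q, rfl⟩ : ∃ q, i = q + 1 := ⟨i - 1, by omega⟩
  refine sub₁ k (shortExact_tw hS (m + 1 - ((q + 1 : ℕ) : ℤ))) ?_ (hO _ _ (by push_cast; omega) (by omega))
  rcases Nat.eq_zero_or_pos q with rfl | hq
  · rw [show m + 1 - ((0 + 1 : ℕ) : ℤ) = m by simp]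
    let c := cancelNat (twCancel (n := n) (R := k) (-m) m (by omega))
    let A := (tensorBy (tw n k m)).mapIso eP
    let B := (tensorBy (tw n k m)).mapIso eF
    have hc : (tensorBy (tw n k m)).map φ = A.hom ≫ (c.app P).hom ≫ ψ ≫ (c.app N).inv ≫ B.hom := by
      have hn : (c.app P).hom ≫ ψ ≫ (c.app N).inv = (tensorBy (tw n k m)).map (T'.map ψ) := by
        rw [← Category.assoc, Iso.comp_inv_eq]
        exact (c.hom.naturality ψ).symm
      simp only [φ, Functor.map_comp, A, B, Functor.mapIso_hom]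
      rw [reassoc_of% hn]
    change Function.Surjective (mapK k ((tensorBy (tw n k m)).map φ) 0)
    rw [hc]
    exact surjective_comp (surjective_iso A) (surjective_comp (surjective_iso (c.app P))
      (surjective_comp hψ (surjective_comp (surjective_iso (c.app N).symm) (surjective_iso B))))
  · intro y
    exact ⟨0, (Chase.subsingleton_of_iso k (tensorIso (Iso.refl F) (eqToIso (by push_cast; ring_nf)))
      (h q hq)).elim _ _⟩

end Field

end Groth.Agent.Lib.ProjKoszul.Reg2
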