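import Groth.Agent.Lib.ProjCoh.Coherent
import Groth.Agent.Lib.ProjCoh.Mul
import Groth.Agent.Lib.Modules.Local
import Groth.Agent.Lib.TensorMod.TensorInv

/-!
# Multiplication by the coordinates on `P^n_R`

* `Mult.mulX t : 𝟭 ⟶ (- ⊗ O(1))`, natural, is invertible on the chart `D₊(X_t)`.
-/

universe u

open CategoryTheory CategoryTheory.Limits AlgebraicGeometry TopologicalSpace Opposite MvPolynomial

noncomputable section

namespace Groth.Agent.Lib.ProjKoszul.Mult

open Groth.Agent.Lib Groth.Agent.Lib.ProjCoh.Sections Groth.Agent.Lib.ProjCoh.Coherent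
  Groth.Agent.Lib.ProjCoh.Mul TensorMod.Basic TensorMod.Pullback Groth.Agent.Lib.Cech.Complex ProjTilde

variable {n : ℕ} {R : Type u} [CommRing R]

/-- The Laurent polynomial of a coordinate. -/
def lauX (t : Fin (n + 1)) : Lau n R := zmono (Finsupp.single t 1)

theorem glob_lauX (t : Fin (n + 1)) : Glob (1 - 0) (lauX (R := R) t) := by
  intro e he j
  have : e = Finsupp.single t 1 := by
    by_contra h
    exact he (by simp [lauX, zmono, h])
  subst this
  refine ⟨by simp [Finsupp.single_apply], fun l hl => absurd hl ?_⟩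
  rw [Finsupp.single_apply]
  split <;> simp

/-- Multiplication by a coordinate between the twists. -/
def μTS (t : Fin (n + 1)) : TS n R 0 ⟶ TS n R 1 := mul 0 1 (lauX t) (glob_lauX t)

theorem μTS_app_bijective (t : Fin (n + 1)) {V : (CohB1.ProjSpace n R).Opens}
    (hV : V ≤ inter (cover n R) (one1 ⟨t⟩)) : Function.Bijective ((μTS t).app V) := by
  let j : ULift.{u} (Fin (n + 1)) := ⟨t⟩
  have hg : (μTS (R := R) t).app (inter (cover n R) (one1 j)) (gen (R := R) 0 j) = gen (R := R) 1 j := by
    refine coef_injective (one1 j) ?_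
    rw [μTS, coef_mul, coef_gen, coef_gen, lauX, ← zmono_add]
    simp [j]
  have hr : ∀ r : Γ(CohB1.ProjSpace n R, V), (μTS t).app V
      (r • ((TS n R 0).presheaf.map (homOfLE hV).op (gen 0 j) : Γ(TS n R 0, V))) =
      r • ((TS n R 1).presheaf.map (homOfLE hV).op (gen 1 j) : Γ(TS n R 1, V)) := fun r => by
    refine ((μTS t).val.app (op V)).hom.map_smul r _ |>.trans ?_
    refine congrArg (fun s : Γ(TS n R 1, V) => r • s) ?_
    exact (ConcreteCategory.congr_hom ((μTS t).mapPresheaf.naturality (homOfLE hV).op) (gen 0 j)).trans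
      (congrArg (fun s => (TS n R 1).presheaf.map (homOfLE hV).op s) hg)
  constructor
  · refine (injective_iff_map_eq_zero _).mpr fun σ hσ => ?_
    obtain ⟨r, rfl⟩ := exists_smul_gen 0 j V hV σ
    rw [hr] at hσ
    refine Frac.sect_ext (U := V) fun x => ?_
    have h0 : (r.1 x).val • Frac.val (gen (R := R) 1 j) ⟨x.1, hV x.2⟩ = 0 :=
      congrArg (fun s : Sect n R 1 V => Frac.val s x) hσ
    have hj : ∀ k, mono R (Finsupp.single j.down k) ∉ x.1.asHomogeneousIdeal := fun k h =>
      (inter_le (cover n R) (one1 j) 0 (hV x.2) : (X j.down : S n R) ∉ x.1.asHomogeneousIdeal)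
        (x.1.isPrime.mem_of_pow_mem k (by rwa [X_pow_eq_monomial]))
    let e : S n R := mono R (Finsupp.single j.down ((1 : ℤ)).toNat)
    let c : S n R := mono R (Finsupp.single j.down (-(1 : ℤ)).toNat)
    change ((r.1 x).val : Twist.Loc (CohB1.polyGrading n R) x.1) * Basic.unitAt x.1 e c (hj _) = 0 at h0
    have h1 : ((r.1 x).val : Twist.Loc (CohB1.polyGrading n R) x.1) = 0 := by
      have := congrArg (· * Basic.unitAt x.1 c e (hj _)) h0
      simpa only [mul_assoc, Basic.unitAt_mul_unitAt (c := c) (e := e) x.1 (hj _) (hj _), mul_one, zero_mul] using this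
    change (r.1 x).val • Frac.val (gen (R := R) 0 j) ⟨x.1, hV x.2⟩ = 0
    rw [h1, zero_smul]
  · intro τ
    obtain ⟨r, rfl⟩ := exists_smul_gen 1 j V hV τ
    exact ⟨_, hr r⟩

/-- The section `X_t` of `O(1)`. -/
def sect (t : Fin (n + 1)) : Coh.structureModule (CohB1.ProjSpace n R) ⟶ tw n R 1 :=
  (twZero.inv ≫ (twIso 0).hom) ≫ μTS t ≫ (twIso 1).inv

/-- The chart of a coordinate. -/
abbrev chart (n : ℕ) (R : Type u) [CommRing R] (t : Fin (n + 1)) : (CohB1.ProjSpace n R).Opens :=
  inter (cover n R) (one1 ⟨t⟩)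

theorem exists_mem_chart (x : CohB1.ProjSpace n R) : ∃ t, x ∈ chart n R t := by
  obtain ⟨j, hj⟩ := exists_mem_inter x
  exact ⟨j.down, hj⟩

theorem isIso_pb_μTS (t : Fin (n + 1)) : IsIso ((pb (chart n R t).ι).map (μTS t)) := by
  refine (NatIso.isIso_map_iff (Scheme.Modules.restrictFunctorIsoPullback (chart n R t).ι) _).1 ?_
  exact (Modules.Stalk.isIso_iff_app_bijective _).2 fun U =>
    μTS_app_bijective t ((chart n R t).ι.image_le_opensRange U |>.trans
      (Scheme.Opens.opensRange_ι _).le)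

theorem isIso_pb_sect (t : Fin (n + 1)) : IsIso ((pb (chart n R t).ι).map (sect t)) := by
  have := isIso_pb_μTS (R := R) t
  simp only [sect, Functor.map_comp]
  infer_instance

/-- Multiplication by `X_t`, as a natural transformation `M ⟶ M ⊗ O(1)`. -/
def mulX (t : Fin (n + 1)) : 𝟭 (CohB1.ProjSpace n R).Modules ⟶ tensorBy (tw n R 1) where
  app M := (rightUnit M).inv ≫ tmap (𝟙 M) (sect t)
  naturality M N f := by
    change f ≫ (rightUnit N).inv ≫ tmap (𝟙 N) (sect t) =
      ((rightUnit M).inv ≫ tmap (𝟙 M) (sect t)) ≫ tmap f (𝟙 _)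
    have h : f ≫ (rightUnit N).inv = (rightUnit M).inv ≫ tmap f (𝟙 _) := by
      rw [Iso.eq_inv_comp, ← Category.assoc, Iso.comp_inv_eq]
      exact (rightUnit_natural f).symm
    rw [reassoc_of% h, Category.assoc, ← tmap_comp, ← tmap_comp]
    simp only [Category.id_comp, Category.comp_id]

/-- Multiplication by `X_t` is invertible on its chart. -/
theorem isIso_pb_mulX (t : Fin (n + 1)) (M : (CohB1.ProjSpace n R).Modules) :
    IsIso ((pb (chart n R t).ι).map ((mulX t).app M)) := by
  let j := (chart n R t).ι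
  have := isIso_pb_sect (R := R) t
  have hiso : IsIso (tmap (𝟙 ((pb j).obj M)) ((pb j).map (sect (R := R) t))) :=
    (tensorIso (Iso.refl _) (asIso ((pb j).map (sect (R := R) t)))).isIso_hom
  have hnat : (pullbackTensorIso j M (Coh.structureModule _)).hom ≫
      tmap (𝟙 ((pb j).obj M)) ((pb j).map (sect (R := R) t)) =
      (pb j).map (tmap (𝟙 M) (sect t)) ≫ (pullbackTensorIso j M (tw n R 1)).hom := by
    rw [← CategoryTheory.Functor.map_id]
    exact (delta_natural j (𝟙 M) (sect t)).symm
  have : IsIso ((pb j).map (tmap (𝟙 M) (sect t))) := by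
    have e := congrArg (· ≫ (pullbackTensorIso j M (tw n R 1)).inv) hnat
    simp only [Category.assoc, Iso.hom_inv_id, Category.comp_id] at e
    rw [← e]
    infer_instance
  change IsIso ((pb j).map ((rightUnit M).inv ≫ tmap (𝟙 M) (sect t)))
  rw [Functor.map_comp]
  infer_instance

end Groth.Agent.Lib.ProjKoszul.Mult
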